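import Mathlib
import Cfsg.Prelude.Def_Blocks
import Cfsg.Agent.H2.CensusDefs

/-!
# Census of simple group orders in `3641 .. 6232` (helper2): the statements of the pieces

Exact statements (as `Prop`-valued definitions, universe polymorphic) of the pieces of the team
project S0983, and the lists of orders.
-/

set_option autoImplicit false

namespace Cfsg.Agent.H2.Census

open Cfsg

universe u

/-- `D` is the degree of some irreducible character of `G`. -/
def IsDegOf (G : Type u) [Group G] (D : ℕ) : Prop :=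
  ∃ χ : IrrCharacter G, charDegree (χ : G → ℂ) = D

/-- A non-cyclic simple group has no irreducible character of degree `2`. -/
def StmtNoDegTwo : Prop :=
  ∀ (G : Type u) [Group G] [Finite G] [IsSimpleGroup G], ¬ IsCyclic G →
    ∀ χ : IrrCharacter G, charDegree (χ : G → ℂ) ≠ 2

/-- Character-level form of Brauer's theorem on the principal block for a Sylow subgroup of
prime order `p`: `e - 1` characters `S` (degrees `≡ ±1`), one character `θ` (degree `≡ ε e`). -/
def StmtBlockChars : Prop :=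
  ∀ (G : Type u) [Group G] [Finite G] [IsSimpleGroup G], ¬ IsCyclic G →
    ∀ (p : ℕ) [Fact p.Prime], p ≠ 2 → ∀ (M : Ideal AlgInt), IsPModular p M →
    ∀ (P : Sylow p G), Nat.card P = p → ∀ (e : ℕ),
      (Subgroup.centralizer ((P : Subgroup G) : Set G)).relIndex
        (Subgroup.normalizer ((P : Subgroup G) : Set G)) = e →
    ∃ (S : Finset (IrrCharacter G)) (θ : IrrCharacter G) (ε : ℤ),
      S.card = e - 1 ∧ θ ∉ S ∧ (ε = 1 ∨ ε = -1) ∧
      (∀ χ ∈ S, charDegree (χ : G → ℂ) ≠ 1 ∧
        (charDegree (χ : G → ℂ) % p = 1 ∨ charDegree (χ : G → ℂ) % p = p - 1)) ∧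
      charDegree (θ : G → ℂ) ≠ 1 ∧
      ((charDegree (θ : G → ℂ) : ℤ) % (p : ℤ) = (ε * (e : ℤ)) % (p : ℤ)) ∧
      1 + ∑ χ ∈ S, sgn p (charDegree (χ : G → ℂ)) * (charDegree (χ : G → ℂ) : ℤ) =
        ε * (charDegree (θ : G → ℂ) : ℤ) ∧
      1 + ∑ χ ∈ S, charDegree (χ : G → ℂ) * charDegree (χ : G → ℂ) +
        (p - 1) / e * (charDegree (θ : G → ℂ) * charDegree (θ : G → ℂ)) ≤ Nat.card G ∧
      (∀ χ ∈ S, χ ∈ principalBlock M G) ∧ θ ∈ principalBlock M G ∧
      (∀ χ ∈ principalBlock M G, charDegree (χ : G → ℂ) = 1 ∨ χ ∈ S ∨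
        charDegree (χ : G → ℂ) = charDegree (θ : G → ℂ))

/-- Brauer data exist for every prime exactly dividing the order of a non-cyclic simple group. -/
def StmtBD : Prop :=
  ∀ (G : Type u) [Group G] [Finite G] [IsSimpleGroup G], ¬ IsCyclic G →
    ∀ (p : ℕ) [Fact p.Prime], p ≠ 2 → p ∣ Nat.card G → ¬ p * p ∣ Nat.card G →
      BrauerData (Nat.card G) p (IsDegOf G)

/-- Orders killed by Burnside's `p^a q^b`, by S0499 or by Brauer–Tuan (`no_simple_bt_gen`). -/
def easyList : List ℕ :=
  [3888, 3968, 4000, 4563, 5184, 6075, 3800, 4900, 5236, 5852, 3648, 3672, 3840, 4160, 4224, 4400,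
    4416, 4480, 4512, 4536, 4752, 4800, 4928, 5200, 5376, 5508, 5952, 6080]

/-- Orders killed by the Brauer degree search, with the prime used. -/
def brauerList : List (ℕ × ℕ) :=
  [(3696, 11), (3780, 5), (3960, 11), (4200, 7), (4212, 13), (4284, 17), (4368, 7), (4560, 19),
    (4680, 13), (4725, 7), (4760, 5), (4896, 17), (4960, 31), (5104, 11), (5148, 11), (5220, 29),
    (5280, 11), (5320, 19), (5520, 23), (5544, 11), (5600, 7), (5700, 19), (5724, 53), (5880, 5),
    (5940, 11), (6120, 17), (6160, 7)]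

/-- All orders in `3641 .. 6232` not excluded by the Sylow or Burnside arithmetic tests. -/
def special : List ℕ :=
  [3648, 3672, 3696, 3744, 3780, 3800, 3840, 3888, 3960, 3968, 4000, 4032, 4080, 4160, 4200, 4212,
    4224, 4284, 4320, 4368, 4400, 4416, 4480, 4500, 4512, 4536, 4560, 4563, 4620, 4680, 4725, 4752,
    4760, 4800, 4896, 4900, 4928, 4960, 5040, 5104, 5148, 5184, 5200, 5220, 5236, 5280, 5292, 5320,
    5376, 5400, 5460, 5472, 5508, 5520, 5544, 5600, 5616, 5700, 5724, 5760, 5852, 5880, 5940, 5952,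
    6000, 6048, 6072, 6075, 6080, 6120, 6160]

/-- Sylow subgroups through a subgroup `L` of an abelian Sylow subgroup `P`: their number is
`≡ 1 (mod p)` and equals `|C(L) : N(P) ∩ C(L)|`. -/
def StmtSylowThrough : Prop :=
  ∀ (G : Type u) [Group G] [Finite G] (p : ℕ) [Fact p.Prime] (P : Sylow p G),
    IsMulCommutative ↥(P : Subgroup G) → ∀ L : Subgroup G, L ≤ (P : Subgroup G) →
      Set.ncard {R : Sylow p G | L ≤ (R : Subgroup G)} % p = 1 ∧
      Set.ncard {R : Sylow p G | L ≤ (R : Subgroup G)} *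
        Nat.card ↥(Subgroup.normalizer ((P : Subgroup G) : Set G) ⊓
          Subgroup.centralizer (L : Set G)) = Nat.card ↥(Subgroup.centralizer (L : Set G))

/-- A group of order `150` or `450` has only one Sylow `5`-subgroup. -/
def StmtUniqueSylow5 : Prop :=
  ∀ (H : Type u) [Group H] [Finite H], (Nat.card H = 150 ∨ Nat.card H = 450) →
    ∀ P R : Sylow 5 H, P = R

/-- The number of Sylow `p`-subgroups meeting `P` trivially is divisible by `|P|`. -/
def StmtDisjointSylow : Prop :=
  ∀ (G : Type u) [Group G] [Finite G] (p : ℕ) [Fact p.Prime] (P : Sylow p G),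
    Nat.card ↥(P : Subgroup G) ∣
      Set.ncard {R : Sylow p G | (P : Subgroup G) ⊓ (R : Subgroup G) = ⊥}

/-- In a simple group of order `5400`: a subgroup `L` of order `5` lying in two Sylow
`5`-subgroups lies in exactly six, and `N(P) ∩ N(L)` has order `50`. -/
def StmtThick5400 : Prop :=
  ∀ (G : Type u) [Group G] [Finite G] [IsSimpleGroup G], Nat.card G = 5400 →
    ∀ (P : Sylow 5 G) (L : Subgroup G), L ≤ (P : Subgroup G) → Nat.card ↥L = 5 →
    ∀ R : Sylow 5 G, R ≠ P → L ≤ (R : Subgroup G) →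
      Set.ncard {R' : Sylow 5 G | L ≤ (R' : Subgroup G)} = 6 ∧
      Nat.card ↥(Subgroup.normalizer ((P : Subgroup G) : Set G) ⊓
        Subgroup.normalizer (L : Set G)) = 50

end Cfsg.Agent.H2.Census
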