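import Mathlib

set_option autoImplicit false
set_option linter.style.haveILetI false

namespace Cfsg.Agent.H2

open Subgroup
open scoped IsMulCommutative commutatorElement

variable {G : Type*} [Group G]

section CoprimeAbelian

variable {A V : Subgroup G}

/-- Conjugation by `a ∈ A` as an endomorphism of the normalised subgroup `V`. -/
def conjOn (hAV : A ≤ normalizer (V : Set G)) (a : A) : V →* V where
  toFun v := ⟨a * v * (a : G)⁻¹, le_normalizer_iff.mp hAV a a.2 v v.2⟩
  map_one' := by ext; simp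
  map_mul' x y := by ext; simp [mul_assoc]

theorem conjOn_coe (hAV : A ≤ normalizer (V : Set G)) (a : A) (v : V) :
    ((conjOn hAV a v : V) : G) = a * v * (a : G)⁻¹ := rfl

theorem conjOn_mul (hAV : A ≤ normalizer (V : Set G)) (a b : A) (v : V) :
    conjOn hAV (a * b) v = conjOn hAV a (conjOn hAV b v) := by
  ext; simp [conjOn_coe, mul_assoc]

variable [Finite G] [IsMulCommutative V]

/-- The "norm" (averaging) endomorphism of the abelian group `V` under the action of `A`. -/
noncomputable def normOn (hAV : A ≤ normalizer (V : Set G)) : V →* V :=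
  letI : Fintype A := Fintype.ofFinite A
  ∏ a : A, conjOn hAV a

theorem normOn_apply (hAV : A ≤ normalizer (V : Set G)) (v : V) :
    letI : Fintype A := Fintype.ofFinite A
    normOn hAV v = ∏ a : A, conjOn hAV a v := by
  letI : Fintype A := Fintype.ofFinite A
  simp [normOn]

theorem conjOn_normOn (hAV : A ≤ normalizer (V : Set G)) (b : A) (v : V) :
    conjOn hAV b (normOn hAV v) = normOn hAV v := by
  letI : Fintype A := Fintype.ofFinite A
  rw [normOn_apply, map_prod]
  simp only [← conjOn_mul]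
  exact Fintype.prod_bijective (fun a => b * a) (Group.mulLeft_bijective b) _ _ (fun a => rfl)

theorem normOn_conjOn (hAV : A ≤ normalizer (V : Set G)) (b : A) (v : V) :
    normOn hAV (conjOn hAV b v) = normOn hAV v := by
  letI : Fintype A := Fintype.ofFinite A
  rw [normOn_apply, normOn_apply]
  simp only [← conjOn_mul]
  exact Fintype.prod_bijective (fun a => a * b) (Group.mulRight_bijective b) _ _ (fun a => rfl)

theorem normOn_of_mem_centralizer (hAV : A ≤ normalizer (V : Set G)) (v : V)
    (hv : (v : G) ∈ centralizer (A : Set G)) : normOn hAV v = v ^ Nat.card A := by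
  letI : Fintype A := Fintype.ofFinite A
  rw [normOn_apply]
  have : ∀ a : A, conjOn hAV a v = v := by
    intro a
    ext
    rw [conjOn_coe]
    have := hv a a.2
    rw [mul_inv_eq_iff_eq_mul]
    exact this
  simp only [this, Finset.prod_const, Finset.card_univ, Nat.card_eq_fintype_card]

theorem normOn_mem_centralizer (hAV : A ≤ normalizer (V : Set G)) (v : V) :
    ((normOn hAV v : V) : G) ∈ centralizer (A : Set G) := by
  intro a ha
  have := congrArg Subtype.val (conjOn_normOn hAV ⟨a, ha⟩ v)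
  rw [conjOn_coe] at this
  rw [mul_inv_eq_iff_eq_mul] at this
  exact this

omit [Finite G] [IsMulCommutative V] in
theorem commutator_le_of_le_normalizer (hAV : A ≤ normalizer (V : Set G)) : ⁅V, A⁆ ≤ V := by
  rw [commutator_le]
  intro v hv a ha
  have := le_normalizer_iff.mp hAV a ha v⁻¹ (V.inv_mem hv)
  have h2 := V.mul_mem hv this
  rw [commutatorElement_def]
  simpa [mul_assoc] using h2

theorem normOn_eq_one_of_mem_commutator (hAV : A ≤ normalizer (V : Set G)) (v : V)
    (hv : (v : G) ∈ ⁅V, A⁆) : normOn hAV v = 1 := by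
  have hle : ⁅V, A⁆ ≤ ((normOn hAV).ker).map V.subtype := by
    rw [commutator_le]
    intro x hx a ha
    refine ⟨⟨x, hx⟩ * (conjOn hAV ⟨a, ha⟩ ⟨x, hx⟩)⁻¹, ?_, ?_⟩
    · rw [SetLike.mem_coe, MonoidHom.mem_ker, map_mul, map_inv, normOn_conjOn, mul_inv_cancel]
    · simp [conjOn_coe, commutatorElement_def, mul_assoc]
  obtain ⟨w, hw, hwv⟩ := hle hv
  have : w = v := Subtype.ext hwv
  rw [← this]
  exact hw

theorem pow_card_mem_sup (hAV : A ≤ normalizer (V : Set G)) (v : V) :
    ((v ^ Nat.card A : V) : G) ∈ (V ⊓ centralizer (A : Set G)) ⊔ ⁅V, A⁆ := by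
  letI : Fintype A := Fintype.ofFinite A
  have h1 : v ^ Nat.card A = normOn hAV v * ∏ a : A, (v * (conjOn hAV a v)⁻¹) := by
    rw [normOn_apply, Finset.prod_mul_distrib, Finset.prod_inv_distrib, Finset.prod_const,
      Finset.card_univ, Nat.card_eq_fintype_card]
    simp
  rw [h1, Subgroup.coe_mul]
  apply Subgroup.mul_mem_sup
  · exact Subgroup.mem_inf.mpr ⟨(normOn hAV v).2, normOn_mem_centralizer hAV v⟩
  · rw [← Subgroup.mem_subgroupOf]
    apply Subgroup.prod_mem
    intro a _
    rw [Subgroup.mem_subgroupOf]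
    have : ((v * (conjOn hAV a v)⁻¹ : V) : G) = ⁅(v : G), (a : G)⁆ := by
      simp [conjOn_coe, commutatorElement_def, mul_assoc]
    rw [this]
    exact Subgroup.commutator_mem_commutator v.2 a.2

/-- Coprime action on an abelian group: `V = C_V(A) × [V, A]`. -/
theorem coprime_abelian_decomp (hAV : A ≤ normalizer (V : Set G))
    (hcop : (Nat.card A).Coprime (Nat.card V)) :
    (V ⊓ centralizer (A : Set G)) ⊓ ⁅V, A⁆ = ⊥ ∧ (V ⊓ centralizer (A : Set G)) ⊔ ⁅V, A⁆ = V := by
  constructor
  · rw [eq_bot_iff]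
    intro x hx
    obtain ⟨⟨hxV, hxC⟩, hxc⟩ := hx
    have h1 : normOn hAV ⟨x, hxV⟩ = (⟨x, hxV⟩ : V) ^ Nat.card A :=
      normOn_of_mem_centralizer hAV ⟨x, hxV⟩ hxC
    have h2 : normOn hAV ⟨x, hxV⟩ = 1 := normOn_eq_one_of_mem_commutator hAV ⟨x, hxV⟩ hxc
    rw [h2] at h1
    have h3 : orderOf (⟨x, hxV⟩ : V) ∣ Nat.card A := orderOf_dvd_of_pow_eq_one h1.symm
    have h4 : orderOf (⟨x, hxV⟩ : V) ∣ Nat.card V := orderOf_dvd_natCard _
    have h5 : orderOf (⟨x, hxV⟩ : V) = 1 := Nat.eq_one_of_dvd_coprimes hcop h3 h4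
    rw [orderOf_eq_one_iff] at h5
    rw [Subgroup.mem_bot]
    exact congrArg Subtype.val h5
  · apply le_antisymm
    · exact sup_le inf_le_left (commutator_le_of_le_normalizer hAV)
    · intro x hx
      obtain ⟨w, hw⟩ := (powCoprime hcop.symm).surjective ⟨x, hx⟩
      have := pow_card_mem_sup hAV w
      rw [powCoprime_apply] at hw
      rw [hw] at this
      exact this

end CoprimeAbelian

section PGroupAction

variable {A V : Subgroup G}

/-- The conjugation action of `A` on a subgroup `V` that it normalises. -/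
@[reducible] def conjMulAction (hAV : A ≤ normalizer (V : Set G)) : MulAction A V where
  smul a v := conjOn hAV a v
  one_smul v := by
    apply Subtype.ext
    show ((1 : A) : G) * v * ((1 : A) : G)⁻¹ = v
    simp
  mul_smul a b v := conjOn_mul hAV a b v

/-- A `q`-group `Q` normalising `P`: the order of `P` is congruent mod `q` to the order
of `C_P(Q)`. -/
theorem card_modEq_card_inf_centralizer {q : ℕ} [Fact q.Prime] [Finite G] (Q P : Subgroup G)
    (hQ : IsPGroup q Q) (hQP : Q ≤ normalizer (P : Set G)) :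
    Nat.card P ≡ Nat.card (P ⊓ centralizer (Q : Set G) : Subgroup G) [MOD q] := by
  letI := conjMulAction hQP
  have h1 := hQ.card_modEq_card_fixedPoints P
  have h2 : Nat.card (MulAction.fixedPoints Q P) =
      Nat.card (P ⊓ centralizer (Q : Set G) : Subgroup G) := by
    apply Nat.card_congr
    refine ⟨fun v => ⟨v.1.1, ⟨v.1.2, ?_⟩⟩, fun g => ⟨⟨g.1, g.2.1⟩, ?_⟩, fun v => rfl, fun g => rfl⟩
    · intro a ha
      have h3 : (⟨a, ha⟩ : Q) • v.1 = v.1 := v.2 ⟨a, ha⟩
      have h4 : a * (v.1 : G) * a⁻¹ = v.1 := congrArg Subtype.val h3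
      exact mul_inv_eq_iff_eq_mul.mp h4
    · intro a
      apply Subtype.ext
      show (a : G) * g.1 * (a : G)⁻¹ = g.1
      have h3 : (a : G) * g.1 = g.1 * a := g.2.2 a a.2
      rw [h3, mul_inv_cancel_right]
  rw [← h2]; exact h1

end PGroupAction

end Cfsg.Agent.H2
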