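import Mathlib
import Cfsg.Agent.H13.SchDefs
import Cfsg.Agent.H13.PCore
import Cfsg.Agent.H58.SolvStable
import Cfsg.Agent.H58.Sig2
import Cfsg.Agent.Helper55.FrattiniFaithful
import Cfsg.Agent.H1.CoprimeSylow
import Cfsg.Agent.H66.HHA
import Cfsg.Agent.H80.PSolvable
import Cfsg.Agent.H14.Cores
import Cfsg.Agent.H3.PGroup

/-!
# S4394-P3 (team piece for helper13): class two Sylow `p`-subgroup, `p ≥ 5`

In a finite `p`-soluble group with `O_{p'}(G) = 1`, `p ≥ 5`, a Sylow `p`-subgroup of class at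
most two lies in `O_p(G)`.
-/

set_option autoImplicit false
set_option linter.unusedVariables false

namespace Cfsg.Agent.H2.Sch

open Cfsg
open scoped commutatorElement

theorem sylow_le_pCore_of_class_two {G : Type*} [Group G] [Finite G] (p : ℕ) [Fact p.Prime]
    (hp2 : p ≠ 2) (hp3 : p ≠ 3) (hsol : Cfsg.IsPSolvable p G) (hO : pPrimeCore p G = ⊥)
    (S : Sylow p G)
    (hcl : ∀ a ∈ (S : Subgroup G), ∀ b ∈ (S : Subgroup G), ∀ c ∈ (S : Subgroup G),
      ⁅a, b⁆ * c = c * ⁅a, b⁆) :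
    (S : Subgroup G) ≤ pCore p G := by
  have hp : p.Prime := Fact.out
  have hVp : IsPGroup p (pCore p G) := H14.pCore_isPGroup p G
  have hVS : pCore p G ≤ S := H13.pCore_le_sylow S
  by_contra hcon
  obtain ⟨x, hxS, hxV⟩ := SetLike.not_le_iff_exists.mp hcon
  have hCV : Subgroup.centralizer ((pCore p G : Subgroup G) : Set G) ≤ pCore p G :=
    H80.centralizer_pCore_le p hsol hO
  have hOb : pCore p (G ⧸ pCore p G) = ⊥ := H66.pCore_quotient_pCore_bot p
  have hsol' : IsPSolvable p (G ⧸ pCore p G) := H80.isPSolvable_quotient p (pCore p G) hsol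
  have hCK : Subgroup.centralizer ((pPrimeCore p (G ⧸ pCore p G) : Subgroup (G ⧸ pCore p G)) :
      Set (G ⧸ pCore p G)) ≤ pPrimeCore p (G ⧸ pCore p G) :=
    H66.centralizer_pPrimeCore_le p hsol' hOb
  have hKcop : (Nat.card (pPrimeCore p (G ⧸ pCore p G))).Coprime p :=
    H14.pPrimeCore_coprime p (G ⧸ pCore p G)
  set K := pPrimeCore p (G ⧸ pCore p G) with hK
  set π := QuotientGroup.mk' (pCore p G) with hπ
  have hxb1 : π x ≠ 1 := fun h => hxV ((QuotientGroup.eq_one_iff x).mp h)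
  obtain ⟨kx, hkx⟩ : ∃ k : ℕ, x ^ p ^ k = 1 := by
    obtain ⟨k, hk⟩ := S.isPGroup' ⟨x, hxS⟩
    exact ⟨k, by simpa using congrArg Subtype.val hk⟩
  have hxbp : π x ^ p ^ kx = 1 := by rw [← map_pow, hkx, map_one]
  have hAcard : Nat.card (Subgroup.zpowers (π x)) ∣ p ^ kx := by
    rw [Nat.card_zpowers]; exact orderOf_dvd_of_pow_eq_one hxbp
  have hAK : Subgroup.zpowers (π x) ≤ Subgroup.normalizer (K : Set (G ⧸ pCore p G)) := by
    rw [Subgroup.normalizer_eq_top]; exact le_top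
  have hpK : (p ^ kx).Coprime (Nat.card K) := Nat.Coprime.pow_left kx hKcop.symm
  have hcop : (Nat.card (Subgroup.zpowers (π x))).Coprime (Nat.card K) :=
    Nat.Coprime.coprime_dvd_left hAcard hpK
  have hAsolv : Group.IsSolvable (Subgroup.zpowers (π x)) := inferInstance
  -- an invariant prime power subgroup of `K` not centralized by `x`
  have hex : ∃ R : Subgroup (G ⧸ pCore p G), R ≤ K ∧ (∃ r n : ℕ, r.Prime ∧ Nat.card R = r ^ n) ∧
      Subgroup.zpowers (π x) ≤ Subgroup.normalizer (R : Set (G ⧸ pCore p G)) ∧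
      ∃ s ∈ R, s * π x ≠ π x * s := by
    by_contra hno
    push_neg at hno
    have hKle : K ≤ Subgroup.centralizer ({π x} : Set (G ⧸ pCore p G)) := by
      have hdvd : Nat.card K ∣
          Nat.card ↥(K ⊓ Subgroup.centralizer ({π x} : Set (G ⧸ pCore p G))) := by
        rw [← Nat.factorization_prime_le_iff_dvd Nat.card_pos.ne' Nat.card_pos.ne']
        intro r hr
        haveI := Fact.mk hr
        obtain ⟨X, hXK, hXc, hXA⟩ := H1.coprime_exists_invariant_sylow_aux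
          (Subgroup.zpowers (π x)) K hAK hcop (Or.inl hAsolv) r
        have hXC : X ≤ K ⊓ Subgroup.centralizer ({π x} : Set (G ⧸ pCore p G)) := by
          refine le_inf hXK ?_
          intro s hs
          rw [Subgroup.mem_centralizer_iff]
          intro h hh
          rw [Set.mem_singleton_iff] at hh
          subst hh
          exact (hno X hXK ⟨r, _, hr, hXc⟩ hXA s hs).symm
        have h1 : r ^ (Nat.card K).factorization r ∣
            Nat.card ↥(K ⊓ Subgroup.centralizer ({π x} : Set (G ⧸ pCore p G))) := by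
          rw [← hXc]; exact Subgroup.card_dvd_of_le hXC
        exact (hr.pow_dvd_iff_le_factorization Nat.card_pos.ne').mp h1
      have hCK' : K ⊓ Subgroup.centralizer ({π x} : Set (G ⧸ pCore p G)) = K :=
        Subgroup.eq_of_le_of_card_ge inf_le_left (Nat.le_of_dvd Nat.card_pos hdvd)
      rw [← hCK']; exact inf_le_right
    have hxc : π x ∈ Subgroup.centralizer (K : Set (G ⧸ pCore p G)) := by
      rw [Subgroup.mem_centralizer_iff]
      intro k hk
      have h1 := hKle hk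
      rw [Subgroup.mem_centralizer_iff] at h1
      exact (h1 (π x) rfl).symm
    have hxK : π x ∈ K := hCK hxc
    have h1 : orderOf (π x) ∣ Nat.card K := by
      have h2 := Subgroup.card_dvd_of_le ((Subgroup.zpowers_le (H := K)).mpr hxK)
      rwa [Nat.card_zpowers] at h2
    have h2 : orderOf (π x) ∣ p ^ kx := orderOf_dvd_of_pow_eq_one hxbp
    have h3 : orderOf (π x) = 1 := Nat.eq_one_of_dvd_coprimes hpK h2 h1
    exact hxb1 (orderOf_eq_one_iff.mp h3)
  obtain ⟨R, hRK, ⟨r, n, hr, hRc⟩, hAR, s, hsR, hsx⟩ := hex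
  haveI := Fact.mk hr
  have hRp : IsPGroup r R := IsPGroup.of_card hRc
  -- the solvable subgroup `Γ`
  have hRsolv : Group.IsSolvable R := by
    haveI := hRp.isNilpotent
    infer_instance
  have hTsolv : Group.IsSolvable ↥(R ⊔ Subgroup.zpowers (π x)) :=
    H58.isSolvable_sup hAR hRsolv hAsolv
  set Γ := (R ⊔ Subgroup.zpowers (π x)).comap π with hΓ
  have hxΓ : x ∈ Γ := Subgroup.mem_comap.mpr (Subgroup.mem_sup_right (Subgroup.mem_zpowers (π x)))
  have hVΓ : pCore p G ≤ Γ := by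
    intro v hv
    have h1 : π v = 1 := (QuotientGroup.eq_one_iff v).mpr hv
    rw [hΓ, Subgroup.mem_comap, h1]
    exact Subgroup.one_mem _
  have hVsolv : Group.IsSolvable (pCore p G) := by
    haveI := hVp.isNilpotent
    infer_instance
  have hΓsolv : Group.IsSolvable Γ := by
    refine solvable_of_ker_le_range (Subgroup.inclusion hVΓ)
      (π.subgroupComap (R ⊔ Subgroup.zpowers (π x))) ?_
    intro γ hγ
    rw [MonoidHom.mem_ker] at hγ
    have h1 : π (γ : G) = 1 := congrArg Subtype.val hγ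
    have h2 : (γ : G) ∈ pCore p G := (QuotientGroup.eq_one_iff _).mp h1
    exact ⟨⟨γ, h2⟩, Subtype.ext rfl⟩
  -- the Frattini quotient of `V`
  haveI hFn : ((frattini ↥(pCore p G)).map (pCore p G).subtype).Normal :=
    ConjAct.normal_of_characteristic_of_normal
  set F := (frattini ↥(pCore p G)).map (pCore p G).subtype with hF
  set ρ := QuotientGroup.mk' F with hρ
  have hVFel : IsElementaryAbelian p ((pCore p G).map ρ) := by
    constructor
    · refine ⟨⟨?_⟩⟩
      rintro ⟨a, u, hu, rfl⟩ ⟨b, v, hv, rfl⟩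
      apply Subtype.ext
      show ρ u * ρ v = ρ v * ρ u
      have h1 : ⁅(⟨u, hu⟩ : pCore p G), ⟨v, hv⟩⁆ ∈ frattini ↥(pCore p G) :=
        H3.commutator_le_frattini hVp (Subgroup.commutator_mem_commutator
          (Subgroup.mem_top _) (Subgroup.mem_top _))
      have h2 : ⁅u, v⁆ ∈ F := ⟨_, h1, rfl⟩
      have h3 : ρ ⁅u, v⁆ = 1 := (QuotientGroup.eq_one_iff _).mpr h2
      rw [commutatorElement_def, map_mul, map_mul, map_mul, map_inv, map_inv] at h3
      calc ρ u * ρ v = (ρ u * ρ v * (ρ u)⁻¹ * (ρ v)⁻¹) * (ρ v * ρ u) := by group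
        _ = ρ v * ρ u := by rw [h3, one_mul]
    · rintro a ⟨v, hv, rfl⟩
      rw [← map_pow]
      have h1 : (⟨v, hv⟩ : pCore p G) ^ p ∈ frattini ↥(pCore p G) :=
        H3.pow_mem_frattini hVp ⟨v, hv⟩
      exact (QuotientGroup.eq_one_iff _).mpr ⟨_, h1, rfl⟩
  -- quadratic action of `x`
  have hquadG : ⁅⁅pCore p G, Subgroup.zpowers x⁆, Subgroup.zpowers x⁆ = ⊥ := by
    rw [Subgroup.commutator_eq_bot_iff_le_centralizer, Subgroup.commutator_le]
    intro v hv y hy
    rw [Subgroup.mem_centralizer_iff]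
    intro z hz
    have hyS : y ∈ (S : Subgroup G) := (Subgroup.zpowers_le.mpr hxS) hy
    have hzS : z ∈ (S : Subgroup G) := (Subgroup.zpowers_le.mpr hxS) hz
    exact (hcl v (hVS hv) y hyS z hzS).symm
  have hquad : ⁅⁅(pCore p G).map ρ, Subgroup.zpowers (ρ x)⁆, Subgroup.zpowers (ρ x)⁆ = ⊥ := by
    have h1 := congrArg (Subgroup.map ρ) hquadG
    rw [Subgroup.map_commutator, Subgroup.map_commutator, MonoidHom.map_zpowers,
      Subgroup.map_bot] at h1
    exact h1
  haveI hVFn : ((pCore p G).map ρ).Normal :=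
    Subgroup.Normal.map inferInstance ρ (QuotientGroup.mk'_surjective F)
  have hιn : ∀ γ : Γ, (ρ.comp Γ.subtype) γ ∈
      Subgroup.normalizer (((pCore p G).map ρ : Subgroup (G ⧸ F)) : Set (G ⧸ F)) := by
    intro γ
    rw [Subgroup.normalizer_eq_top]; trivial
  obtain ⟨N, hNn, haN, hNp⟩ := H58.quad_normal_group_solv hp2 hp3 ((pCore p G).map ρ) hVFel
    (ρ.comp Γ.subtype) hιn ⟨x, hxΓ⟩ hquad
  have hNV : ∀ g ∈ N, ∃ k : ℕ, (g : G) ^ p ^ k ∈ pCore p G := by
    intro g hg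
    obtain ⟨k, hk⟩ := hNp g hg
    refine ⟨k, ?_⟩
    apply Helper55.mem_pCore_of_trivial_on_frattini_quotient p hsol hO
    intro v hv
    have h1 : ρ ((g : G) ^ p ^ k) ∈
        Subgroup.centralizer (((pCore p G).map ρ : Subgroup (G ⧸ F)) : Set (G ⧸ F)) := by
      rw [map_pow]; exact hk
    rw [Subgroup.mem_centralizer_iff] at h1
    have h2 := h1 (ρ v) (Subgroup.mem_map_of_mem ρ hv)
    have h3 : ρ ((g : G) ^ p ^ k * v * ((g : G) ^ p ^ k)⁻¹ * v⁻¹) = 1 := by
      rw [map_mul, map_mul, map_mul, map_inv, map_inv, ← h2]; group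
    exact (QuotientGroup.eq_one_iff _).mp h3
  -- final contradiction
  obtain ⟨s0, rfl⟩ := QuotientGroup.mk'_surjective (pCore p G) s
  have hs0Γ : s0 ∈ Γ := Subgroup.mem_comap.mpr (Subgroup.mem_sup_left hsR)
  have hcN : (⟨s0, hs0Γ⟩ : Γ) * ⟨x, hxΓ⟩ * (⟨s0, hs0Γ⟩ : Γ)⁻¹ * (⟨x, hxΓ⟩ : Γ)⁻¹ ∈ N :=
    N.mul_mem (hNn.conj_mem _ haN _) (N.inv_mem haN)
  obtain ⟨k, hk⟩ := hNV _ hcN
  have hc1 : (π s0 * π x * (π s0)⁻¹ * (π x)⁻¹) ^ p ^ k = 1 := by
    have h1 : π ((s0 * x * s0⁻¹ * x⁻¹) ^ p ^ k) = 1 := (QuotientGroup.eq_one_iff _).mpr hk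
    rw [map_pow, map_mul, map_mul, map_mul, map_inv, map_inv] at h1
    exact h1
  have hxn : π x ∈ Subgroup.normalizer (R : Set (G ⧸ pCore p G)) :=
    hAR (Subgroup.mem_zpowers (π x))
  have hcR : π s0 * π x * (π s0)⁻¹ * (π x)⁻¹ ∈ R := by
    have h1 : π x * (π s0)⁻¹ * (π x)⁻¹ ∈ R :=
      (Subgroup.mem_normalizer_iff.mp hxn _).mp (R.inv_mem hsR)
    have h2 : π s0 * π x * (π s0)⁻¹ * (π x)⁻¹ = π s0 * (π x * (π s0)⁻¹ * (π x)⁻¹) := by group
    rw [h2]; exact R.mul_mem hsR h1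
  have h1 : orderOf (π s0 * π x * (π s0)⁻¹ * (π x)⁻¹) ∣ Nat.card K := by
    have h2 := Subgroup.card_dvd_of_le ((Subgroup.zpowers_le (H := K)).mpr (hRK hcR))
    rwa [Nat.card_zpowers] at h2
  have h2 : orderOf (π s0 * π x * (π s0)⁻¹ * (π x)⁻¹) ∣ p ^ k := orderOf_dvd_of_pow_eq_one hc1
  have h3 : orderOf (π s0 * π x * (π s0)⁻¹ * (π x)⁻¹) = 1 :=
    Nat.eq_one_of_dvd_coprimes (Nat.Coprime.pow_left k hKcop.symm) h2 h1
  have h4 : π s0 * π x * (π s0)⁻¹ * (π x)⁻¹ = 1 := orderOf_eq_one_iff.mp h3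
  apply hsx
  calc π s0 * π x = (π s0 * π x * (π s0)⁻¹ * (π x)⁻¹) * (π x * π s0) := by group
    _ = π x * π s0 := by rw [h4, one_mul]

end Cfsg.Agent.H2.Sch
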