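import Cfsg.Agent.H2.O4320Setup
import Cfsg.Agent.H2.O4320Arith
import Cfsg.Agent.H21.E2Setup
import Cfsg.Agent.H28.Ord4320Div
import Cfsg.Agent.S0910

/-!
# A simple group of order 4320 would have a degree 4 character in its principal 5-block (helper2)
-/

set_option autoImplicit false
set_option linter.unusedSectionVars false
set_option linter.style.haveILetI false

namespace Cfsg.Agent.H2.O4320

open Cfsg Cfsg.Agent.H21 Cfsg.Agent.H21.E2Block

open scoped ComplexConjugate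

/-- A finset of cardinality five containing `t`. -/
theorem card_five_cases {α : Type*} [DecidableEq α] (B : Finset α) (t : α) (ht : t ∈ B)
    (hB : B.card = 5) :
    ∃ a b c d : α, a ≠ t ∧ b ≠ t ∧ c ≠ t ∧ d ≠ t ∧ a ≠ b ∧ a ≠ c ∧ a ≠ d ∧ b ≠ c ∧ b ≠ d ∧
      c ≠ d ∧ B = {t, a, b, c, d} := by
  have h4 : (B.erase t).card = 4 := by rw [Finset.card_erase_of_mem ht, hB]
  obtain ⟨a, ha⟩ : (B.erase t).Nonempty := Finset.card_pos.mp (by rw [h4]; norm_num)
  have h3 : ((B.erase t).erase a).card = 3 := by rw [Finset.card_erase_of_mem ha, h4]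
  obtain ⟨b, c, d, hbc, hbd, hcd, hE⟩ := Finset.card_eq_three.mp h3
  have hb : b ∈ (B.erase t).erase a := by rw [hE]; simp
  have hc : c ∈ (B.erase t).erase a := by rw [hE]; simp
  have hd : d ∈ (B.erase t).erase a := by rw [hE]; simp
  simp only [Finset.mem_erase] at ha hb hc hd
  refine ⟨a, b, c, d, ha.1, hb.2.1, hc.2.1, hd.2.1, fun h => hb.1 h.symm, fun h => hc.1 h.symm,
    fun h => hd.1 h.symm, hbc, hbd, hcd, ?_⟩
  ext ψ
  constructor
  · intro hψ
    by_cases h1 : ψ = t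
    · simp [h1]
    · by_cases h2 : ψ = a
      · simp [h2]
      · have : ψ ∈ (B.erase t).erase a := by
          simp only [Finset.mem_erase]; exact ⟨h2, h1, hψ⟩
        rw [hE] at this
        simp only [Finset.mem_insert, Finset.mem_singleton] at this ⊢
        tauto
  · intro hψ
    simp only [Finset.mem_insert, Finset.mem_singleton] at hψ
    rcases hψ with rfl | rfl | rfl | rfl | rfl
    · exact ht
    · exact ha.2
    · exact hb.2.2
    · exact hc.2.2
    · exact hd.2.2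

/-- Sum over a five element finset. -/
theorem sum_five {α : Type*} [DecidableEq α] {M : Type*} [AddCommMonoid M] (t a b c d : α)
    (hat : a ≠ t) (hbt : b ≠ t) (hct : c ≠ t) (hdt : d ≠ t) (hab : a ≠ b) (hac : a ≠ c)
    (had : a ≠ d) (hbc : b ≠ c) (hbd : b ≠ d) (hcd : c ≠ d) (f : α → M) :
    ∑ ψ ∈ ({t, a, b, c, d} : Finset α), f ψ = f t + (f a + (f b + (f c + f d))) := by
  rw [Finset.sum_insert (by simp [Ne.symm hat, Ne.symm hbt, Ne.symm hct, Ne.symm hdt]),
    Finset.sum_insert (by simp [hab, hac, had]),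
    Finset.sum_insert (by simp [hbc, hbd]), Finset.sum_pair hcd]

/-- In a simple group of order 4320 the principal `5`-block contains a character of degree `4`;
moreover the only characters of the block with value `1` at an element `x` of order `5` and
degree at most `6` is the principal character. -/
theorem exists_chi4 {G : Type*} [Group G] [Finite G] [IsSimpleGroup G]
    (hcard : Nat.card G = 4320) :
    ∃ (x : G) (χ₄ : IrrCharacter G) (B : Finset (IrrCharacter G)) (ε : IrrCharacter G → ℤ),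
      orderOf x = 5 ∧ (χ₄ : G → ℂ) 1 = 4 ∧ (χ₄ : G → ℂ) x = -1 ∧ (χ₄ : G → ℂ) (x * x) = -1 ∧
      triv G ∈ B ∧ ε (triv G) = 1 ∧
      (∀ ψ ∈ B, (ε ψ = 1 ∨ ε ψ = -1) ∧ (ψ : G → ℂ) x = (ε ψ : ℂ)) ∧
      (∀ ψ : IrrCharacter G, ψ ∉ B → (ψ : G → ℂ) x = 0) ∧
      (∀ ψ ∈ B, ψ ≠ triv G → ε ψ = 1 → 6 < charDegree (ψ : G → ℂ)) := by
  classical
  have hnp : ¬ (Nat.card G).Prime := by rw [hcard]; norm_num
  have hG : ¬ IsMulCommutative G := Cfsg.Agent.H21.not_comm_of_not_prime hnp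
  have hna : ∃ u v : G, u * v ≠ v * u := by
    by_contra hcon
    push Not at hcon
    exact hG ⟨⟨hcon⟩⟩
  haveI : Fact (Nat.Prime 5) := ⟨by norm_num⟩
  haveI : Fact (Nat.Prime 2) := ⟨Nat.prime_two⟩
  haveI : Fact (Nat.Prime 3) := ⟨Nat.prime_three⟩
  haveI : Finite (IrrCharacter G) := Cfsg.Agent.H4.finite_irr G
  have hcard' : Nat.card G = 2 ^ 5 * 3 ^ 3 * 5 := by rw [hcard]; norm_num
  obtain ⟨M5, hM5⟩ := Cfsg.Agent.H78.exists_isPModular 5 (by norm_num)
  obtain ⟨M2, hM2⟩ := Cfsg.Agent.H78.exists_isPModular 2 Nat.prime_two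
  obtain ⟨M3, hM3⟩ := Cfsg.Agent.H78.exists_isPModular 3 Nat.prime_three
  let P : Sylow 5 G := default
  have hP : Nat.card P = 5 :=
    BrauerTuan.card_sylow 2 3 5 5 3 Nat.prime_two Nat.prime_three (by norm_num) (by norm_num)
      hcard' P
  have hC : Subgroup.centralizer ((P : Subgroup G) : Set G) = (P : Subgroup G) :=
    BrauerTuan.centralizer_sylow_eq 2 3 5 5 3 Nat.prime_two Nat.prime_three (by norm_num)
      (by norm_num) hcard' P
  obtain ⟨d, hd, hd1, hdr, -⟩ := Cfsg.Agent.H21.simple_sylow_prime_card_NC hG P hP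
  have hcardN := Cfsg.Agent.H21.card_centralizer_mul_relIndex_normalizer (P : Subgroup G)
  rw [← hd, hC] at hcardN
  obtain ⟨-, -, -, -, hmod, -, -, hNn, -⟩ := Cfsg.Agent.H21.simple_sylow_facts hG (p := 5)
    (k := 1) (m := 864) (by rw [hcard]; norm_num) (by norm_num) one_ne_zero P
  have hPc : Nat.card (P : Subgroup G) = 5 := hP
  rw [← hcardN, hPc, hcard] at hNn
  have hd4 : d = 4 := by
    have hd4' : d ≤ 4 := Nat.le_of_dvd (by norm_num) hdr
    interval_cases d <;> omega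
  have hN4 : (Subgroup.centralizer ((P : Subgroup G) : Set G)).relIndex
      (Subgroup.normalizer ((P : Subgroup G) : Set G)) = 5 - 1 := by rw [← hd, hd4]
  obtain ⟨ε, hcardB, hin, hout, hsum⟩ := full_block_setup 5 (by norm_num) M5 hM5 P hP hC hN4
  -- the element `x`
  obtain ⟨x, hxP, hx5⟩ := Cfsg.Agent.H21.exists_mem_orderOf_eq_prime (P : Subgroup G) 5
    (by rw [hPc])
  have hx1 : x ≠ 1 := by
    rintro rfl
    rw [orderOf_one] at hx5
    omega
  have hxx1 : x * x ≠ 1 := by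
    intro h
    have : orderOf x ∣ 2 := orderOf_dvd_of_pow_eq_one (by rw [pow_two]; exact h)
    rw [hx5] at this
    omega
  have hxxP : x * x ∈ (P : Subgroup G) := Subgroup.mul_mem _ hxP hxP
  -- the block as a finset
  have hfin : (principalBlock M5 G).Finite := Set.toFinite _
  obtain ⟨B, hBdef⟩ : ∃ B : Finset (IrrCharacter G), B = hfin.toFinset := ⟨_, rfl⟩
  have hBmem : ∀ ψ, ψ ∈ B ↔ ψ ∈ principalBlock M5 G := by
    intro ψ; rw [hBdef, Set.Finite.mem_toFinset]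
  have hBcard : B.card = 5 := by
    rw [hBdef, ← Set.ncard_eq_toFinset_card _ hfin, ← Nat.card_coe_set_eq]
    exact hcardB
  have htB : triv G ∈ B := by
    rw [hBmem]; exact Cfsg.Agent.H81.mem_blockOf_self hM5 (triv G)
  have hinx : ∀ ψ ∈ B, (ψ : G → ℂ) x = (ε ψ : ℂ) := fun ψ hψ =>
    (hin ψ ((hBmem ψ).mp hψ)).2.2 x hxP hx1
  have houtx : ∀ ψ : IrrCharacter G, ψ ∉ B → (ψ : G → ℂ) x = 0 := fun ψ hψ =>
    (hout ψ (fun h => hψ ((hBmem ψ).mpr h))).2 x hxP hx1
  have hεt : ε (triv G) = 1 := by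
    have := hinx (triv G) htB
    rw [triv_apply] at this
    exact_mod_cast this.symm
  have hdegt : charDegree ((triv G : IrrCharacter G) : G → ℂ) = 1 := by
    have := (Cfsg.Agent.H81.irr_charDegree (triv G)).1
    rw [triv_apply] at this
    exact_mod_cast this.symm
  -- Sylow subgroups for 2 and 3
  let Q2 : Sylow 2 G := default
  have hQ2 : Nat.card (Q2 : Subgroup G) = 2 ^ 5 :=
    Cfsg.Agent.H21.sylow_card_of_card_eq (p := 2) (k := 5) (m := 135) (by rw [hcard]; norm_num)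
      (by norm_num) Q2
  let Q3 : Sylow 3 G := default
  have hQ3 : Nat.card (Q3 : Subgroup G) = 3 ^ 3 :=
    Cfsg.Agent.H21.sylow_card_of_card_eq (p := 3) (k := 3) (m := 160) (by rw [hcard]; norm_num)
      (by norm_num) Q3
  obtain ⟨T2, hT2, hdvd2⟩ := Cfsg.Agent.H28.Ord4320.sylow_dvd_block_inter 2 M2 hM2 x
    (by rw [hx5]; norm_num) B ε hinx houtx Q2
  obtain ⟨T3, hT3, hdvd3⟩ := Cfsg.Agent.H28.Ord4320.sylow_dvd_block_inter 3 M3 hM3 x
    (by rw [hx5]; norm_num) B ε hinx houtx Q3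
  rw [hQ2] at hdvd2
  rw [hQ3] at hdvd3
  -- signed degrees
  obtain ⟨s, hs⟩ : ∃ s : IrrCharacter G → ℤ,
      ∀ ψ, s ψ = ε ψ * (charDegree (ψ : G → ℂ) : ℤ) := ⟨_, fun _ => rfl⟩
  have hst : s (triv G) = 1 := by rw [hs, hεt, hdegt]; norm_num
  have hnontriv : ∀ ψ : IrrCharacter G, ψ ≠ triv G → ∀ (p : ℕ) [Fact p.Prime]
      (M : Ideal AlgInt), IsPModular p M → ψ ∈ principalBlock M G → ∀ k : ℕ,
      charDegree (ψ : G → ℂ) ≠ p ^ k := by
    intro ψ hψ p _ M hM hmem k hk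
    have hdeg : (ψ : G → ℂ) 1 = (p : ℂ) ^ k := by
      rw [(Cfsg.Agent.H81.irr_charDegree ψ).1, hk]; push_cast; ring
    exact hψ (Subtype.ext (Cfsg.Agent.S0910.result p M hM hna ψ hmem k hdeg))
  have key : ∀ ψ ∈ B, ψ ≠ triv G →
      s ψ ∈ sdegs ∧ (ψ ∈ principalBlock M2 G → s ψ ≠ -4 ∧ s ψ ≠ 16) ∧
      (ψ ∈ principalBlock M3 G → s ψ ≠ -9) ∧ (ε ψ = 1 → s ψ ≠ 6 → 6 < charDegree (ψ : G → ℂ)) ∧
      (s ψ = -4 → charDegree (ψ : G → ℂ) = 4 ∧ ε ψ = -1) := by
    intro ψ hψ hψt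
    obtain ⟨hε, hmod5, -⟩ := hin ψ ((hBmem ψ).mp hψ)
    have hdvd : charDegree (ψ : G → ℂ) ∣ 4320 := hcard ▸ Cfsg.Agent.H81.irr_charDegree_dvd ψ
    have hsq : charDegree (ψ : G → ℂ) ^ 2 ≤ 4320 := hcard ▸ irr_degree_sq_le ψ
    have hne1 : charDegree (ψ : G → ℂ) ≠ 1 := by
      have := hnontriv ψ hψt 5 M5 hM5 ((hBmem ψ).mp hψ) 0
      simpa using this
    obtain ⟨o1, o2⟩ := deg_options _ hdvd hne1 hsq
    have h22 := hnontriv ψ hψt 2 M2 hM2
    have h33 := hnontriv ψ hψt 3 M3 hM3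
    rcases hε with h | h
    · rw [h] at hmod5
      have hm : charDegree (ψ : G → ℂ) % 5 = 1 := by
        have := hmod5
        unfold Int.ModEq at this
        omega
      have hsψ : s ψ = (charDegree (ψ : G → ℂ) : ℤ) := by rw [hs, h, one_mul]
      rcases o1 hm with h6 | h16 | h36
      · rw [hsψ, h6]
        refine ⟨by simp [sdegs], fun _ => by norm_num, fun _ => by norm_num,
          fun _ hh => absurd rfl hh, fun hh => by norm_num at hh⟩
      · rw [hsψ, h16]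
        refine ⟨by simp [sdegs], fun hm2 => absurd h16 (by simpa using h22 hm2 4),
          fun _ => by norm_num, fun _ _ => by norm_num, fun hh => by norm_num at hh⟩
      · rw [hsψ, h36]
        refine ⟨by simp [sdegs], fun _ => by norm_num, fun _ => by norm_num,
          fun _ _ => by norm_num, fun hh => by norm_num at hh⟩
    · rw [h] at hmod5
      have hm : charDegree (ψ : G → ℂ) % 5 = 4 := by
        have := hmod5
        unfold Int.ModEq at this
        omega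
      have hsψ : s ψ = -(charDegree (ψ : G → ℂ) : ℤ) := by rw [hs, h]; ring
      have hε1 : ¬ ε ψ = 1 := by rw [h]; norm_num
      rcases o2 hm with h4 | h9 | h24 | h54
      · rw [hsψ, h4]
        refine ⟨by simp [sdegs], fun hm2 => absurd h4 (by simpa using h22 hm2 2),
          fun _ => by norm_num, fun hh => absurd hh hε1, fun _ => ⟨rfl, h⟩⟩
      · rw [hsψ, h9]
        refine ⟨by simp [sdegs], fun _ => by norm_num,
          fun hm3 => absurd h9 (by simpa using h33 hm3 2), fun hh => absurd hh hε1,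
          fun hh => by norm_num at hh⟩
      · rw [hsψ, h24]
        refine ⟨by simp [sdegs], fun _ => by norm_num, fun _ => by norm_num,
          fun hh => absurd hh hε1, fun hh => by norm_num at hh⟩
      · rw [hsψ, h54]
        refine ⟨by simp [sdegs], fun _ => by norm_num, fun _ => by norm_num,
          fun hh => absurd hh hε1, fun hh => by norm_num at hh⟩
  -- the five characters
  obtain ⟨a, b, c, d', hat, hbt, hct, hdt, hab, hac, had, hbc, hbd, hcd, hBeq⟩ :=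
    card_five_cases B (triv G) htB hBcard
  have haB : a ∈ B := by rw [hBeq]; simp
  have hbB : b ∈ B := by rw [hBeq]; simp
  have hcB : c ∈ B := by rw [hBeq]; simp
  have hdB : d' ∈ B := by rw [hBeq]; simp
  -- the degree equation
  have hone : ¬ 5 ∣ orderOf (1 : G) := by rw [orderOf_one]; norm_num
  have hsum1 := hsum 1 hone
  rw [finsum_mem_eq_finite_toFinset_sum _ hfin, ← hBdef] at hsum1
  have hsum2 : ∑ ψ ∈ B, s ψ = 0 := by
    have : ((∑ ψ ∈ B, s ψ : ℤ) : ℂ) = 0 := by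
      rw [← hsum1]
      push_cast
      refine Finset.sum_congr rfl fun ψ _ => ?_
      rw [hs, (Cfsg.Agent.H81.irr_charDegree ψ).1]
      push_cast
      ring
    exact_mod_cast this
  rw [hBeq, sum_five _ _ _ _ _ hat hbt hct hdt hab hac had hbc hbd hcd, hst] at hsum2
  -- block sums
  have hTsum : ∀ (T : Finset (IrrCharacter G)) (Bq : Set (IrrCharacter G)),
      (∀ ψ, ψ ∈ T ↔ ψ ∈ B ∧ ψ ∈ Bq) → triv G ∈ Bq →
      ∑ ψ ∈ T, ε ψ * (charDegree (ψ : G → ℂ) : ℤ) =
        1 + (if a ∈ Bq then 1 else 0) * s a + (if b ∈ Bq then 1 else 0) * s b +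
          (if c ∈ Bq then 1 else 0) * s c + (if d' ∈ Bq then 1 else 0) * s d' := by
    intro T Bq hT htq
    have hTeq : T = B.filter (fun ψ => ψ ∈ Bq) := by
      ext ψ
      rw [hT, Finset.mem_filter]
    rw [hTeq, Finset.sum_filter, hBeq,
      sum_five _ _ _ _ _ hat hbt hct hdt hab hac had hbc hbd hcd, if_pos htq, ← hs, hst]
    simp only [← hs]
    split_ifs <;> ring
  have ht2 : triv G ∈ principalBlock M2 G := Cfsg.Agent.H81.mem_blockOf_self hM2 (triv G)
  have ht3 : triv G ∈ principalBlock M3 G := Cfsg.Agent.H81.mem_blockOf_self hM3 (triv G)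
  rw [hTsum T2 _ hT2 ht2] at hdvd2
  rw [hTsum T3 _ hT3 ht3] at hdvd3
  obtain ⟨ka, ka2, ka3, ka6, ka4⟩ := key a haB hat
  obtain ⟨kb, kb2, kb3, kb6, kb4⟩ := key b hbB hbt
  obtain ⟨kc, kc2, kc3, kc6, kc4⟩ := key c hcB hct
  obtain ⟨kd, kd2, kd3, kd6, kd4⟩ := key d' hdB hdt
  have hmemc : ∀ (p : Prop) [Decidable p], (if p then (1 : ℤ) else 0) ∈ ([0, 1] : List ℤ) := by
    intro p _
    split_ifs <;> simp
  have hc1 : ∀ (p : Prop) [Decidable p], (if p then (1 : ℤ) else 0) = 1 → p := by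
    intro p _ h
    by_contra hp
    rw [if_neg hp] at h
    norm_num at h
  have hok2 : ok2 (s a) (s b) (s c) (s d') :=
    ⟨_, hmemc _, _, hmemc _, _, hmemc _, _, hmemc _, fun h => ka2 (hc1 _ h),
      fun h => kb2 (hc1 _ h), fun h => kc2 (hc1 _ h), fun h => kd2 (hc1 _ h),
      Int.emod_eq_zero_of_dvd (by exact_mod_cast hdvd2)⟩
  have hok3 : ok3 (s a) (s b) (s c) (s d') :=
    ⟨_, hmemc _, _, hmemc _, _, hmemc _, _, hmemc _, fun h => ka3 (hc1 _ h),
      fun h => kb3 (hc1 _ h), fun h => kc3 (hc1 _ h), fun h => kd3 (hc1 _ h),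
      Int.emod_eq_zero_of_dvd (by exact_mod_cast hdvd3)⟩
  obtain ⟨⟨na, nb, nc, nd⟩, h4⟩ := arith_core (s a) ka (s b) kb (s c) kc (s d') kd
    (by linarith) hok2 hok3
  -- the character of degree 4
  obtain ⟨χ₄, hχB, hχdeg, hχε⟩ : ∃ χ₄ ∈ B, charDegree (χ₄ : G → ℂ) = 4 ∧ ε χ₄ = -1 := by
    rcases h4 with h | h | h | h
    · exact ⟨a, haB, ka4 h⟩
    · exact ⟨b, hbB, kb4 h⟩
    · exact ⟨c, hcB, kc4 h⟩
    · exact ⟨d', hdB, kd4 h⟩
  have hχval : ∀ y ∈ (P : Subgroup G), y ≠ 1 → (χ₄ : G → ℂ) y = -1 := by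
    intro y hy hy1
    rw [(hin χ₄ ((hBmem χ₄).mp hχB)).2.2 y hy hy1, hχε]
    norm_num
  refine ⟨x, χ₄, B, ε, hx5, ?_, hχval x hxP hx1, hχval (x * x) hxxP hxx1, htB, hεt,
    fun ψ hψ => ⟨(hin ψ ((hBmem ψ).mp hψ)).1, hinx ψ hψ⟩, houtx, ?_⟩
  · rw [(Cfsg.Agent.H81.irr_charDegree χ₄).1, hχdeg]; norm_num
  · intro ψ hψ hψt hε1
    rw [hBeq] at hψ
    simp only [Finset.mem_insert, Finset.mem_singleton] at hψ
    rcases hψ with rfl | rfl | rfl | rfl | rfl
    · exact absurd rfl hψt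
    · exact ka6 hε1 na
    · exact kb6 hε1 nb
    · exact kc6 hε1 nc
    · exact kd6 hε1 nd

end Cfsg.Agent.H2.O4320
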