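import Cfsg.Agent.S4441
import Cfsg.Agent.H21.E2Wbo

/-!
# The principal `r`-block when a Sylow `r`-subgroup `P` has prime order, `C(P) = P` and
`|N(P) : P| = r - 1` (helper2)

Consequences of S4441 with `e = r - 1`: the principal block has `r` characters, each constant
`= ±1` on `P \ 1`, with degree congruent to that sign; all other characters vanish on `P \ 1` and
have degree divisible by `r`; the signed sum of the block vanishes on `r`-regular elements.
-/

set_option autoImplicit false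
set_option linter.unusedSectionVars false
set_option linter.style.haveILetI false

namespace Cfsg.Agent.H2.O4320

open Cfsg

open scoped ComplexConjugate

theorem full_block_setup {G : Type*} [Group G] [Finite G] (r : ℕ) [Fact r.Prime] (hr : r ≠ 2)
    (M : Ideal AlgInt) (hM : IsPModular r M) (P : Sylow r G) (hP : Nat.card P = r)
    (hC : Subgroup.centralizer ((P : Subgroup G) : Set G) = (P : Subgroup G))
    (hN : (Subgroup.centralizer ((P : Subgroup G) : Set G)).relIndex
      (Subgroup.normalizer ((P : Subgroup G) : Set G)) = r - 1) :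
    ∃ (ε : IrrCharacter G → ℤ),
      Nat.card (principalBlock M G) = r ∧
      (∀ ψ ∈ principalBlock M G, (ε ψ = 1 ∨ ε ψ = -1) ∧
        ((charDegree (ψ : G → ℂ) : ℤ) ≡ ε ψ [ZMOD r]) ∧
        ∀ y ∈ (P : Subgroup G), y ≠ 1 → (ψ : G → ℂ) y = (ε ψ : ℂ)) ∧
      (∀ ψ : IrrCharacter G, ψ ∉ principalBlock M G → (r ∣ charDegree (ψ : G → ℂ)) ∧
        ∀ y ∈ (P : Subgroup G), y ≠ 1 → (ψ : G → ℂ) y = 0) ∧
      (∀ g : G, ¬ r ∣ orderOf g →
        ∑ᶠ ψ ∈ principalBlock M G, (ε ψ : ℂ) * (ψ : G → ℂ) g = 0) := by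
  classical
  have hrp : r.Prime := Fact.out
  have hr3 : 3 ≤ r := by
    have := hrp.two_le
    omega
  haveI : Fintype G := Fintype.ofFinite G
  haveI : Finite (IrrCharacter G) := Cfsg.Agent.H4.finite_irr G
  obtain ⟨X, Y, hB, hdisj, hX, hY, εX, ε, hXp, hε, hYdeg, -, hYsum⟩ :=
    Cfsg.Agent.S4441.result r M hM hr P hP (r - 1) hN
  have hdiv : (r - 1) / (r - 1) = 1 := Nat.div_self (by omega)
  rw [hdiv] at hY
  obtain ⟨θ', hθ'⟩ := Nat.card_eq_one_iff_exists.mp hY
  obtain ⟨θ, hθY⟩ : ∃ θ, θ ∈ Y := ⟨θ'.1, θ'.2⟩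
  have hYeq : Y = {θ} := by
    ext η
    constructor
    · intro hη
      have h1 := hθ' ⟨η, hη⟩
      have h2 := hθ' ⟨θ, hθY⟩
      have : (⟨η, hη⟩ : Y) = ⟨θ, hθY⟩ := h1.trans h2.symm
      exact congrArg Subtype.val this
    · rintro rfl
      exact hθY
  have hθX : θ ∉ X := fun h => Set.disjoint_left.mp hdisj h hθY
  have hone : ¬ r ∣ orderOf (1 : G) := by
    rw [orderOf_one]; exact hrp.not_dvd_one
  -- degree equation
  have hdeg := hYsum θ hθY 1 hone
  -- value of θ on P \ 1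
  have hθval : ∀ y ∈ (P : Subgroup G), y ≠ 1 → (θ : G → ℂ) y = -(ε : ℂ) := by
    intro y hy hy1
    have hcol := Cfsg.Agent.H4.column_orthogonality (G := G) y 1
    have hcard0 : Nat.card {c : G // c * y * c⁻¹ = 1} = 0 := by
      rw [Nat.card_eq_zero]
      left
      refine ⟨fun c => hy1 ?_⟩
      have h := c.2
      have h2 : y = c.1⁻¹ * (c.1 * y * c.1⁻¹) * c.1 := by group
      rw [h2, h]
      group
    rw [hcard0, Nat.cast_zero] at hcol
    have hconj : ∀ χ : IrrCharacter G, conj ((χ : G → ℂ) 1) = (χ : G → ℂ) 1 := by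
      intro χ
      rw [(Cfsg.Agent.H81.irr_charDegree χ).1]
      exact Complex.conj_natCast _
    have hcol2 : ∑ᶠ χ : IrrCharacter G, (χ : G → ℂ) y * (χ : G → ℂ) 1 = 0 := by
      rw [← hcol]
      exact finsum_congr fun χ => by rw [hconj χ]
    rw [← finsum_mem_univ, ← Set.union_compl_self (principalBlock M G),
      finsum_mem_union disjoint_compl_right (Set.toFinite _) (Set.toFinite _)] at hcol2
    have hout : ∑ᶠ χ ∈ (principalBlock M G)ᶜ, (χ : G → ℂ) y * (χ : G → ℂ) 1 = 0 := by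
      apply finsum_mem_of_eqOn_zero
      intro χ hχ
      have := Cfsg.Agent.H21.E2Block.outside_vanish r M hM P hP hC χ hχ y hy hy1
      simp [this]
    rw [hout, add_zero, hB, finsum_mem_union hdisj (Set.toFinite _) (Set.toFinite _), hYeq,
      finsum_mem_singleton] at hcol2
    have hXs : ∑ᶠ χ ∈ X, (χ : G → ℂ) y * (χ : G → ℂ) 1 =
        ∑ᶠ χ ∈ X, (εX χ : ℂ) * (χ : G → ℂ) 1 := by
      apply finsum_mem_congr rfl
      intro χ hχ
      have := (hXp χ hχ).2.2 y hy hy1 1 (Subgroup.one_mem _) hone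
      rw [mul_one] at this
      rw [this]
    rw [hXs, ← hdeg] at hcol2
    have h0 := Cfsg.Agent.H4.irr_one_ne_zero θ
    have h1 : ((ε : ℂ) + (θ : G → ℂ) y) * (θ : G → ℂ) 1 = 0 := by linear_combination hcol2
    rcases mul_eq_zero.mp h1 with h | h
    · linear_combination h
    · exact absurd h h0
  refine ⟨fun ψ => if ψ ∈ X then εX ψ else -ε, ?_, ?_, ?_, ?_⟩
  · rw [hB, Nat.card_coe_set_eq, Set.ncard_union_eq hdisj (Set.toFinite X) (Set.toFinite Y),
      ← Nat.card_coe_set_eq, ← Nat.card_coe_set_eq, hX, hY]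
    omega
  · intro ψ hψ
    rw [hB] at hψ
    rcases hψ with h | h
    · simp only [if_pos h]
      obtain ⟨h1, h2, h3⟩ := hXp ψ h
      refine ⟨h1, h2, fun y hy hy1 => ?_⟩
      have := h3 y hy hy1 1 (Subgroup.one_mem _) hone
      rwa [mul_one] at this
    · rw [hYeq, Set.mem_singleton_iff] at h
      subst h
      simp only [if_neg hθX]
      refine ⟨?_, ?_, fun y hy hy1 => ?_⟩
      · rcases hε with h | h <;> rw [h] <;> simp
      · have h2 := hYdeg ψ hθY
        have h3 : (ε * ((r - 1 : ℕ) : ℤ)) ≡ -ε [ZMOD r] := by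
          rw [Nat.cast_sub (by omega), Nat.cast_one]
          have : ε * ((r : ℤ) - 1) = -ε + (r : ℤ) * ε := by ring
          rw [this]
          show (-ε + (r : ℤ) * ε) % (r : ℤ) = (-ε) % (r : ℤ)
          rw [Int.add_mul_emod_self_left]
        exact h2.trans h3
      · rw [hθval y hy hy1]
        push_cast
        ring
  · intro ψ hψ
    exact ⟨Cfsg.Agent.H21.E2Block.outside_dvd r M hM P hP hC ψ hψ,
      fun y hy hy1 => Cfsg.Agent.H21.E2Block.outside_vanish r M hM P hP hC ψ hψ y hy hy1⟩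
  · intro g hg
    rw [hB, finsum_mem_union hdisj (Set.toFinite _) (Set.toFinite _), hYeq, finsum_mem_singleton]
    simp only [if_neg hθX]
    have hXs : ∑ᶠ χ ∈ X, ((if χ ∈ X then εX χ else -ε : ℤ) : ℂ) * (χ : G → ℂ) g =
        ∑ᶠ χ ∈ X, (εX χ : ℂ) * (χ : G → ℂ) g := by
      apply finsum_mem_congr rfl
      intro χ hχ
      rw [if_pos hχ]
    rw [hXs, ← hYsum θ hθY g hg]
    push_cast
    ring

end Cfsg.Agent.H2.O4320
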