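import Mathlib
import Cfsg.Prelude.Def_Transfer

set_option autoImplicit false

/-!
helper2: the abstract COUNT kill for S2953 (configuration (R1), case "V ≤ Q1" / helper1 case (a),
helper82 (c)); Mathlib + the Prelude definition `Cfsg.IsElementaryAbelian` only.

`countKill` has the exact statement posted by helper8 (board 11031): two commuting, disjoint
four-groups `U₁, U₂` inside `T`, swapped by an element `a` of a largest elementary abelian
subgroup `A` of `T`, every element of which either normalizes `U₁` or maps it into `U₂`: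
impossible.
-/

namespace Cfsg.Agent.H2.R1Count

universe u

variable {G : Type u} [Group G]

theorem comm_of_sq {V : Subgroup G} (hV : ∀ x ∈ V, x * x = 1) {x y : G} (hx : x ∈ V)
    (hy : y ∈ V) : x * y = y * x := by
  have h1 := hV (x * y) (V.mul_mem hx hy)
  have hx' : x⁻¹ = x := inv_eq_of_mul_eq_one_left (hV x hx)
  have hy' : y⁻¹ = y := inv_eq_of_mul_eq_one_left (hV y hy)
  calc x * y = (x * y)⁻¹ := (inv_eq_of_mul_eq_one_left h1).symm
    _ = y⁻¹ * x⁻¹ := mul_inv_rev x y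
    _ = y * x := by rw [hx', hy']

theorem eq_one_or_eq_of_card_le_two [Finite G] {H : Subgroup G} (hH : Nat.card H ≤ 2) {u v : G}
    (hu : u ∈ H) (hu1 : u ≠ 1) (hv : v ∈ H) : v = 1 ∨ v = u := by
  by_contra hcon
  push_neg at hcon
  have hsub : ({1, u, v} : Set G) ⊆ (H : Set G) := by
    intro t ht
    simp only [Set.mem_insert_iff, Set.mem_singleton_iff] at ht
    rcases ht with rfl | rfl | rfl
    · exact H.one_mem
    · exact hu
    · exact hv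
  have h1n : (1 : G) ∉ ({u, v} : Set G) := by
    simp only [Set.mem_insert_iff, Set.mem_singleton_iff, not_or]
    exact ⟨fun h => hu1 h.symm, fun h => hcon.1 h.symm⟩
  have h3 : ({1, u, v} : Set G).ncard = 3 := by
    rw [Set.ncard_insert_of_notMem h1n (Set.toFinite _), Set.ncard_pair (fun h => hcon.2 h.symm)]
  have hle := Set.ncard_le_ncard hsub (Set.toFinite _)
  have hc : (H : Set G).ncard = Nat.card H := (Nat.card_coe_set_eq (H : Set G)).symm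
  omega

theorem card_le_two_of_ne [Finite G] {H U : Subgroup G} (hU : Nat.card U = 4) (hle : H ≤ U)
    {v : G} (hv : v ∈ U) (hvn : v ∉ H) : Nat.card H ≤ 2 := by
  have hdvd : Nat.card H ∣ 4 := by
    have := Subgroup.card_dvd_of_le hle
    rwa [hU] at this
  have hne : Nat.card H ≠ 4 := by
    intro h4
    have : H = U := Subgroup.eq_of_le_of_card_ge hle (by rw [h4, hU])
    exact hvn (by rw [this]; exact hv)
  have hle4 : Nat.card H ≤ 4 := Nat.le_of_dvd (by norm_num) hdvd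
  have hne3 : Nat.card H ≠ 3 := by
    intro h3
    rw [h3] at hdvd
    norm_num at hdvd
  omega

theorem inv_struct [Finite G] {U : Subgroup G} (hUe : ∀ x ∈ U, x * x = 1) (hUc : Nat.card U = 4)
    {b : G} (hbb : b * b = 1) (hbn : ∀ v ∈ U, b * v * b⁻¹ ∈ U) {v0 : G} (hv0 : v0 ∈ U)
    (hne : b * v0 ≠ v0 * b) :
    ∃ u ∈ U, u ≠ 1 ∧ b * u = u * b ∧ (∀ v ∈ U, b * v = v * b → v = 1 ∨ v = u) ∧
      (∀ v ∈ U, v = 1 ∨ v = u ∨ b * v * b⁻¹ = v * u) := by
  have L1 : ∀ v ∈ U, b * (v * (b * v * b⁻¹)) = (v * (b * v * b⁻¹)) * b := by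
    intro v hv
    have e1 : b * (v * (b * v * b⁻¹)) * b⁻¹ = (b * v * b⁻¹) * ((b * b) * v * (b * b)⁻¹) := by
      group
    rw [hbb] at e1
    simp only [one_mul, inv_one, mul_one] at e1
    have e2 : (b * v * b⁻¹) * v = v * (b * v * b⁻¹) := comm_of_sq hUe (hbn v hv) hv
    exact mul_inv_eq_iff_eq_mul.1 (e1.trans e2)
  have hinv : ∀ v ∈ U, v⁻¹ = v := fun v hv => inv_eq_of_mul_eq_one_left (hUe v hv)
  let Fx : Subgroup G := U ⊓ Subgroup.centralizer ({b} : Set G)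
  have hFx : ∀ v, v ∈ Fx ↔ v ∈ U ∧ b * v = v * b := by
    intro v
    constructor
    · intro h
      exact ⟨(Subgroup.mem_inf.1 h).1,
        Subgroup.mem_centralizer_iff.1 (Subgroup.mem_inf.1 h).2 b rfl⟩
    · rintro ⟨h1, h2⟩
      refine Subgroup.mem_inf.2 ⟨h1, Subgroup.mem_centralizer_iff.2 ?_⟩
      intro h hh
      rw [Set.mem_singleton_iff.1 hh]
      exact h2
  have hFx2 : Nat.card Fx ≤ 2 :=
    card_le_two_of_ne hUc inf_le_left hv0 (fun h => hne ((hFx v0).1 h).2)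
  have hu : v0 * (b * v0 * b⁻¹) ∈ U := U.mul_mem hv0 (hbn v0 hv0)
  have hu1 : v0 * (b * v0 * b⁻¹) ≠ 1 := by
    intro h1
    have h2 : b * v0 * b⁻¹ = v0⁻¹ := eq_inv_of_mul_eq_one_right h1
    rw [hinv v0 hv0] at h2
    exact hne (mul_inv_eq_iff_eq_mul.1 h2)
  have F3 : ∀ v ∈ U, b * v = v * b → v = 1 ∨ v = v0 * (b * v0 * b⁻¹) := by
    intro v hv hbv
    exact eq_one_or_eq_of_card_le_two hFx2 ((hFx _).2 ⟨hu, L1 v0 hv0⟩) hu1 ((hFx v).2 ⟨hv, hbv⟩)
  refine ⟨v0 * (b * v0 * b⁻¹), hu, hu1, L1 v0 hv0, F3, ?_⟩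
  intro v hv
  have ht : v * (b * v * b⁻¹) ∈ U := U.mul_mem hv (hbn v hv)
  rcases F3 _ ht (L1 v hv) with h | h
  · have h2 : b * v * b⁻¹ = v⁻¹ := eq_inv_of_mul_eq_one_right h
    rw [hinv v hv] at h2
    rcases F3 v hv (mul_inv_eq_iff_eq_mul.1 h2) with h3 | h3
    · exact Or.inl h3
    · exact Or.inr (Or.inl h3)
  · right; right
    have h2 : b * v * b⁻¹ = v⁻¹ * (v0 * (b * v0 * b⁻¹)) := eq_inv_mul_of_mul_eq h
    rw [hinv v hv] at h2
    exact h2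

theorem same_action [Finite G] {U : Subgroup G} (hUe : ∀ x ∈ U, x * x = 1)
    (hUc : Nat.card U = 4) {x y : G} (hxx : x * x = 1) (hyy : y * y = 1) (hxy : x * y = y * x)
    (hxn : ∀ v ∈ U, x * v * x⁻¹ ∈ U) (hyn : ∀ v ∈ U, y * v * y⁻¹ ∈ U)
    (hx : ∃ v ∈ U, x * v ≠ v * x) (hy : ∃ v ∈ U, y * v ≠ v * y) :
    ∀ v ∈ U, x * v * x⁻¹ = y * v * y⁻¹ := by
  obtain ⟨vx, hvx, hnx⟩ := hx
  obtain ⟨vy, hvy, hny⟩ := hy
  obtain ⟨ux, hux, hux1, hxux, Fx3, Fx2⟩ := inv_struct hUe hUc hxx hxn hvx hnx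
  obtain ⟨uy, huy, huy1, hyuy, Fy3, Fy2⟩ := inv_struct hUe hUc hyy hyn hvy hny
  have hcx : Commute x y := hxy
  have hfix : x * (y * ux * y⁻¹) = (y * ux * y⁻¹) * x := by
    have h1 : Commute x ux := hxux
    exact ((hcx.mul_right h1).mul_right hcx.inv_right).eq
  have huxy : ux = uy := by
    rcases Fx3 _ (hyn ux hux) hfix with h | h
    · exfalso
      apply hux1
      have h0 : ux = y⁻¹ * (y * ux * y⁻¹) * y := by group
      rw [h0, h]; group
    · rcases Fy3 ux hux (mul_inv_eq_iff_eq_mul.1 h) with h2 | h2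
      · exact absurd h2 hux1
      · exact h2
  have hxu : x * ux * x⁻¹ = ux := mul_inv_eq_iff_eq_mul.2 hxux
  have hyu : y * ux * y⁻¹ = ux := by
    rw [huxy]; exact mul_inv_eq_iff_eq_mul.2 hyuy
  intro v hv
  rcases Fx2 v hv with h | h | h
  · rw [h]; group
  · rw [h, hxu, hyu]
  · rcases Fy2 v hv with h' | h' | h'
    · rw [h']; group
    · rw [h', ← huxy, hxu, hyu]
    · rw [h, h', huxy]

theorem count_core [Finite G] (T A A0 U₁ U₂ : Subgroup G) (a : G)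
    (hAc : ∀ x ∈ A, ∀ y ∈ A, x * y = y * x) (hAe : ∀ x ∈ A, x * x = 1) (hAT : A ≤ T)
    (hmax : ∀ X : Subgroup G, X ≤ T → (∀ x ∈ X, ∀ y ∈ X, x * y = y * x) →
      (∀ x ∈ X, x * x = 1) → Nat.card X ≤ Nat.card A)
    (hU₁T : U₁ ≤ T) (hU₂T : U₂ ≤ T) (hU₁e : ∀ x ∈ U₁, x * x = 1)
    (hc₁ : Nat.card U₁ = 4) (hc₂ : Nat.card U₂ = 4)
    (hcomm : ∀ u ∈ U₁, ∀ w ∈ U₂, u * w = w * u) (hdisj : ∀ x, x ∈ U₁ → x ∈ U₂ → x = 1)
    (ha : a ∈ A) (hs₁ : ∀ u ∈ U₁, a * u * a⁻¹ ∈ U₂) (hs₂ : ∀ w ∈ U₂, a * w * a⁻¹ ∈ U₁)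
    (hA0 : A0 ≤ A) (hidx : Nat.card A ≤ 2 * Nat.card A0)
    (hnorm : ∀ b ∈ A0, ∀ u ∈ U₁, b * u * b⁻¹ ∈ U₁) : False := by
  have ha2 : a * a = 1 := hAe a ha
  have hU₂e : ∀ w ∈ U₂, w * w = 1 := by
    intro w hw
    have hv := hU₁e _ (hs₂ w hw)
    have h1 : a * (w * w) * a⁻¹ = 1 := by
      calc a * (w * w) * a⁻¹ = (a * w * a⁻¹) * (a * w * a⁻¹) := by group
        _ = 1 := hv
    have h2 : w * w = a⁻¹ * (a * (w * w) * a⁻¹) * a := by group
    rw [h2, h1]; group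
  have hnorm2 : ∀ b ∈ A0, ∀ w ∈ U₂, b * w * b⁻¹ ∈ U₂ := by
    intro b hb w hw
    have hbA := hA0 hb
    have h := hs₁ _ (hnorm b hb _ (hs₂ w hw))
    have hab : a * b = b * a := hAc a ha b hbA
    have e : a * (b * (a * w * a⁻¹) * b⁻¹) * a⁻¹ = b * w * b⁻¹ := by
      calc a * (b * (a * w * a⁻¹) * b⁻¹) * a⁻¹
          = (a * b) * (a * w * a⁻¹) * (a * b)⁻¹ := by group
        _ = (b * a) * (a * w * a⁻¹) * (b * a)⁻¹ := by rw [hab]
        _ = b * ((a * a) * w * (a * a)⁻¹) * b⁻¹ := by group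
        _ = b * w * b⁻¹ := by rw [ha2]; group
    rwa [e] at h
  have UD : ∀ u ∈ U₁, ∀ u' ∈ U₁, ∀ w ∈ U₂, ∀ w' ∈ U₂, u * w = u' * w' → u = u' ∧ w = w' := by
    intro u hu u' hu' w hw w' hw' h
    have h1 : u'⁻¹ * u = w' * w⁻¹ := by
      calc u'⁻¹ * u = u'⁻¹ * (u * w) * w⁻¹ := by group
        _ = u'⁻¹ * (u' * w') * w⁻¹ := by rw [h]
        _ = w' * w⁻¹ := by group
    have h2 : u'⁻¹ * u = 1 :=
      hdisj _ (U₁.mul_mem (U₁.inv_mem hu') hu)
        (by rw [h1]; exact U₂.mul_mem hw' (U₂.inv_mem hw))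
    have h3 : w' * w⁻¹ = 1 := h1.symm.trans h2
    exact ⟨(inv_mul_eq_one.1 h2).symm, (mul_inv_eq_one.1 h3).symm⟩
  let C : Subgroup G := A0 ⊓ Subgroup.centralizer (U₁ : Set G)
  let F : Subgroup G := U₁ ⊓ Subgroup.centralizer (A0 : Set G)
  have hCA0 : C ≤ A0 := inf_le_left
  have hC1 : ∀ c ∈ C, ∀ u ∈ U₁, Commute c u := by
    intro c hc u hu
    exact (Subgroup.mem_centralizer_iff.1 (Subgroup.mem_inf.1 hc).2 u hu).symm
  have hCa : ∀ c ∈ C, Commute c a := fun c hc => hAc c (hA0 (hCA0 hc)) a ha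
  have hC2 : ∀ c ∈ C, ∀ w ∈ U₂, Commute c w := by
    intro c hc w hw
    have hw' : w = a⁻¹ * (a * w * a⁻¹) * a := by group
    have hcm : Commute c (a⁻¹ * (a * w * a⁻¹) * a) :=
      ((hCa c hc).inv_right.mul_right (hC1 c hc _ (hs₂ w hw))).mul_right (hCa c hc)
    have h0 := hcm.eq
    rw [← hw'] at h0
    exact h0
  have hCC : ∀ c ∈ C, ∀ c' ∈ C, Commute c c' :=
    fun c hc c' hc' => hAc c (hA0 (hCA0 hc)) c' (hA0 (hCA0 hc'))
  have hUU : ∀ u ∈ U₁, ∀ u' ∈ U₁, Commute u u' := fun u hu u' hu' => comm_of_sq hU₁e hu hu'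
  have hWW : ∀ w ∈ U₂, ∀ w' ∈ U₂, Commute w w' := fun w hw w' hw' => comm_of_sq hU₂e hw hw'
  have hUW : ∀ u ∈ U₁, ∀ w ∈ U₂, Commute u w := fun u hu w hw => hcomm u hu w hw
  obtain ⟨φ, hφ⟩ : ∃ φ : (↥C × ↥U₁ × ↥U₂) →* G,
      ∀ p : ↥C × ↥U₁ × ↥U₂, φ p = (p.1 : G) * (p.2.1 : G) * (p.2.2 : G) := by
    refine ⟨MonoidHom.mk' (fun p : ↥C × ↥U₁ × ↥U₂ => (p.1 : G) * (p.2.1 : G) * (p.2.2 : G)) ?_,
      fun _ => rfl⟩
    rintro ⟨⟨c, hc⟩, ⟨u, hu⟩, ⟨w, hw⟩⟩ ⟨⟨c', hc'⟩, ⟨u', hu'⟩, ⟨w', hw'⟩⟩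
    show c * c' * (u * u') * (w * w') = c * u * w * (c' * u' * w')
    have e1 : c' * u = u * c' := (hC1 c' hc' u hu).eq
    have e2 : c' * w = w * c' := (hC2 c' hc' w hw).eq
    have e3 : u' * w = w * u' := (hUW u' hu' w hw).eq
    calc c * c' * (u * u') * (w * w')
        = c * (c' * u) * u' * w * w' := by group
      _ = c * (u * c') * u' * w * w' := by rw [e1]
      _ = c * u * c' * (u' * w) * w' := by group
      _ = c * u * c' * (w * u') * w' := by rw [e3]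
      _ = c * u * (c' * w) * u' * w' := by group
      _ = c * u * (w * c') * u' * w' := by rw [e2]
      _ = c * u * w * (c' * u' * w') := by group
  have hXT : φ.range ≤ T := by
    rintro _ ⟨p, rfl⟩
    rw [hφ]
    exact T.mul_mem (T.mul_mem (hAT (hA0 (hCA0 p.1.2))) (hU₁T p.2.1.2)) (hU₂T p.2.2.2)
  have key : ∀ p q : ↥C × ↥U₁ × ↥U₂, Commute (φ p) (φ q) := by
    intro p q
    rw [hφ, hφ]
    have h1 : Commute (p.1 : G) ((q.1 : G) * (q.2.1 : G) * (q.2.2 : G)) :=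
      ((hCC _ p.1.2 _ q.1.2).mul_right (hC1 _ p.1.2 _ q.2.1.2)).mul_right
        (hC2 _ p.1.2 _ q.2.2.2)
    have h2 : Commute (p.2.1 : G) ((q.1 : G) * (q.2.1 : G) * (q.2.2 : G)) :=
      (((hC1 _ q.1.2 _ p.2.1.2).symm).mul_right (hUU _ p.2.1.2 _ q.2.1.2)).mul_right
        (hUW _ p.2.1.2 _ q.2.2.2)
    have h3 : Commute (p.2.2 : G) ((q.1 : G) * (q.2.1 : G) * (q.2.2 : G)) :=
      (((hC2 _ q.1.2 _ p.2.2.2).symm).mul_right ((hUW _ q.2.1.2 _ p.2.2.2).symm)).mul_right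
        (hWW _ p.2.2.2 _ q.2.2.2)
    exact (h1.mul_left h2).mul_left h3
  have hXc : ∀ x ∈ φ.range, ∀ y ∈ φ.range, x * y = y * x := by
    rintro _ ⟨p, rfl⟩ _ ⟨q, rfl⟩
    exact (key p q).eq
  have hXe : ∀ x ∈ φ.range, x * x = 1 := by
    rintro _ ⟨p, rfl⟩
    rw [← map_mul]
    have hpp : p * p = 1 := by
      refine Prod.ext ?_ (Prod.ext ?_ ?_)
      · exact Subtype.ext (hAe _ (hA0 (hCA0 p.1.2)))
      · exact Subtype.ext (hU₁e _ p.2.1.2)
      · exact Subtype.ext (hU₂e _ p.2.2.2)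
    rw [hpp, map_one]
  have hcard : Nat.card φ.ker * Nat.card φ.range = Nat.card C * 16 := by
    have h1 := Subgroup.card_mul_index φ.ker
    rw [Subgroup.index_ker] at h1
    have h2 : Nat.card (↥C × ↥U₁ × ↥U₂) = Nat.card C * 16 := by
      simp [Nat.card_prod, hc₁, hc₂]
    rw [h1, h2]
  have hXle : Nat.card φ.range ≤ Nat.card A := hmax _ hXT hXc hXe
  have KL : ∀ c ∈ C, ∀ u ∈ U₁, ∀ w ∈ U₂, c * u * w = 1 →
      w = a * u * a⁻¹ ∧ ∀ b ∈ A0, b * u = u * b := by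
    intro c hc u hu w hw h
    have hd : u * w = c⁻¹ := by
      have h0 : c * (u * w) = 1 := by rw [← mul_assoc]; exact h
      exact eq_inv_of_mul_eq_one_right h0
    have hdA0 : u * w ∈ A0 := by rw [hd]; exact A0.inv_mem (hCA0 hc)
    have hdA : u * w ∈ A := hA0 hdA0
    constructor
    · have hconj : a * (u * w) * a⁻¹ = u * w := by
        have h0 := hAc a ha _ hdA
        rw [h0]; group
      have e : a * (u * w) * a⁻¹ = (a * w * a⁻¹) * (a * u * a⁻¹) := by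
        have h1 : a * (u * w) * a⁻¹ = (a * u * a⁻¹) * (a * w * a⁻¹) := by group
        rw [h1]
        exact (hcomm _ (hs₂ w hw) _ (hs₁ u hu)).symm
      have h2 : u * w = (a * w * a⁻¹) * (a * u * a⁻¹) := hconj.symm.trans e
      exact (UD u hu _ (hs₂ w hw) w hw _ (hs₁ u hu) h2).2
    · intro b hb
      have hbA := hA0 hb
      have hconj : b * (u * w) * b⁻¹ = u * w := by
        have h0 := hAc b hbA _ hdA
        rw [h0]; group
      have e : b * (u * w) * b⁻¹ = (b * u * b⁻¹) * (b * w * b⁻¹) := by group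
      have h2 : u * w = (b * u * b⁻¹) * (b * w * b⁻¹) := hconj.symm.trans e
      have h3 := (UD u hu _ (hnorm b hb u hu) w hw _ (hnorm2 b hb w hw) h2).1
      exact mul_inv_eq_iff_eq_mul.1 h3.symm
  have hkerle : Nat.card φ.ker ≤ Nat.card F := by
    have hmemF : ∀ p : φ.ker, ((p.1.2.1 : ↥U₁) : G) ∈ F := by
      intro p
      have hp := p.2
      rw [MonoidHom.mem_ker, hφ] at hp
      have h0 := (KL _ p.1.1.2 _ p.1.2.1.2 _ p.1.2.2.2 hp).2
      exact Subgroup.mem_inf.2 ⟨p.1.2.1.2, Subgroup.mem_centralizer_iff.2 h0⟩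
    refine Nat.card_le_card_of_injective (fun p : φ.ker => (⟨_, hmemF p⟩ : F)) ?_
    intro p q hpq
    have hu : ((p.1.2.1 : ↥U₁) : G) = ((q.1.2.1 : ↥U₁) : G) := by
      have h0 := congrArg (fun t : ↥F => (t : G)) hpq
      exact h0
    have hp := p.2
    have hq := q.2
    rw [MonoidHom.mem_ker, hφ] at hp hq
    have hwp := (KL _ p.1.1.2 _ p.1.2.1.2 _ p.1.2.2.2 hp).1
    have hwq := (KL _ q.1.1.2 _ q.1.2.1.2 _ q.1.2.2.2 hq).1
    have hw : ((p.1.2.2 : ↥U₂) : G) = ((q.1.2.2 : ↥U₂) : G) := by rw [hwp, hwq, hu]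
    have hc : ((p.1.1 : ↥C) : G) = ((q.1.1 : ↥C) : G) := by
      have e1 : ((p.1.1 : ↥C) : G) = (((p.1.2.1 : ↥U₁) : G) * ((p.1.2.2 : ↥U₂) : G))⁻¹ := by
        apply eq_inv_of_mul_eq_one_left
        rw [← mul_assoc]; exact hp
      have e2 : ((q.1.1 : ↥C) : G) = (((q.1.2.1 : ↥U₁) : G) * ((q.1.2.2 : ↥U₂) : G))⁻¹ := by
        apply eq_inv_of_mul_eq_one_left
        rw [← mul_assoc]; exact hq
      rw [e1, e2, hu, hw]
    exact Subtype.ext (Prod.ext (Subtype.ext hc) (Prod.ext (Subtype.ext hu) (Subtype.ext hw)))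
  have hCpos : 0 < Nat.card C := Nat.card_pos
  have hmain : Nat.card C * 16 ≤ Nat.card F * (2 * Nat.card A0) := by
    rw [← hcard]
    exact Nat.mul_le_mul hkerle (hXle.trans hidx)
  have hfin : Nat.card F * Nat.card A0 ≤ 4 * Nat.card C := by
    by_cases hcase : ∀ x ∈ A0, ∀ v ∈ U₁, x * v = v * x
    · have h1 : A0 ≤ C := fun x hx =>
        Subgroup.mem_inf.2 ⟨hx, Subgroup.mem_centralizer_iff.2 fun v hv => (hcase x hx v hv).symm⟩
      have h2 : Nat.card A0 ≤ Nat.card C := Subgroup.card_le_of_le h1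
      have h3 : Nat.card F ≤ 4 := by
        have h0 := Subgroup.card_le_of_le (inf_le_left : F ≤ U₁)
        rwa [hc₁] at h0
      exact Nat.mul_le_mul h3 h2
    · push_neg at hcase
      obtain ⟨x0, hx0, v0, hv0, hne0⟩ := hcase
      have h3 : Nat.card F ≤ 2 := by
        refine card_le_two_of_ne hc₁ inf_le_left hv0 ?_
        intro hF
        exact hne0 (Subgroup.mem_centralizer_iff.1 (Subgroup.mem_inf.1 hF).2 x0 hx0)
      have hx0A := hA0 hx0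
      have hclaim : ∀ x ∈ A0, x ∈ C ∨ x0⁻¹ * x ∈ C := by
        intro x hx
        by_cases hxc : ∀ v ∈ U₁, x * v = v * x
        · left
          exact Subgroup.mem_inf.2
            ⟨hx, Subgroup.mem_centralizer_iff.2 fun v hv => (hxc v hv).symm⟩
        · right
          push_neg at hxc
          have hsame := same_action hU₁e hc₁ (hAe x (hA0 hx)) (hAe x0 hx0A)
            (hAc x (hA0 hx) x0 hx0A) (hnorm x hx) (hnorm x0 hx0) hxc ⟨v0, hv0, hne0⟩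
          refine Subgroup.mem_inf.2
            ⟨A0.mul_mem (A0.inv_mem hx0) hx, Subgroup.mem_centralizer_iff.2 ?_⟩
          intro v hv
          have h := hsame v hv
          have h' : x * v = x0 * v * x0⁻¹ * x := mul_inv_eq_iff_eq_mul.1 h
          calc v * (x0⁻¹ * x) = x0⁻¹ * (x0 * v * x0⁻¹ * x) := by group
            _ = x0⁻¹ * (x * v) := by rw [h']
            _ = x0⁻¹ * x * v := by group
      have h2 : Nat.card A0 ≤ 2 * Nat.card C := by
        have hsub : (A0 : Set G) ⊆ (C : Set G) ∪ (fun y => x0 * y) '' (C : Set G) := by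
          intro x hx
          rcases hclaim x hx with h | h
          · exact Or.inl h
          · exact Or.inr ⟨x0⁻¹ * x, h, by group⟩
        have e1 := Set.ncard_le_ncard hsub (Set.toFinite _)
        have e2 := Set.ncard_union_le (C : Set G) ((fun y => x0 * y) '' (C : Set G))
        have e3 : ((fun y => x0 * y) '' (C : Set G)).ncard ≤ (C : Set G).ncard :=
          Set.ncard_image_le (Set.toFinite _)
        have e4 : (A0 : Set G).ncard = Nat.card A0 := (Nat.card_coe_set_eq (A0 : Set G)).symm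
        have e5 : (C : Set G).ncard = Nat.card C := (Nat.card_coe_set_eq (C : Set G)).symm
        omega
      calc Nat.card F * Nat.card A0 ≤ 2 * (2 * Nat.card C) := Nat.mul_le_mul h3 h2
        _ = 4 * Nat.card C := by ring
  nlinarith [hmain, hfin, hCpos]

/-- The abstract COUNT kill (exact statement of helper8's board post 11031). -/
theorem countKill [Finite G] (T A U₁ U₂ : Subgroup G) (a : G)
    (hA : Cfsg.IsElementaryAbelian 2 A) (hAT : A ≤ T)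
    (hmax : ∀ X : Subgroup G, X ≤ T → Cfsg.IsElementaryAbelian 2 X → Nat.card X ≤ Nat.card A)
    (hU₁T : U₁ ≤ T) (hU₂T : U₂ ≤ T) (hU₁ : Cfsg.IsElementaryAbelian 2 U₁)
    (hU₂ : Cfsg.IsElementaryAbelian 2 U₂) (hc₁ : Nat.card U₁ = 4) (hc₂ : Nat.card U₂ = 4)
    (hcomm : ∀ u ∈ U₁, ∀ w ∈ U₂, u * w = w * u) (hdisj : U₁ ⊓ U₂ = ⊥) (ha : a ∈ A)
    (hs₁ : ∀ u ∈ U₁, a * u * a⁻¹ ∈ U₂) (hs₂ : ∀ w ∈ U₂, a * w * a⁻¹ ∈ U₁)
    (hperm : ∀ b ∈ A, (∀ u ∈ U₁, b * u * b⁻¹ ∈ U₁) ∨ (∀ u ∈ U₁, b * u * b⁻¹ ∈ U₂)) :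
    False := by
  have hAc : ∀ x ∈ A, ∀ y ∈ A, x * y = y * x := fun x hx y hy =>
    congrArg Subtype.val (hA.1.is_comm.comm ⟨x, hx⟩ ⟨y, hy⟩)
  have hAe : ∀ x ∈ A, x * x = 1 := fun x hx => by rw [← pow_two]; exact hA.2 x hx
  have hU₁e : ∀ x ∈ U₁, x * x = 1 := fun x hx => by rw [← pow_two]; exact hU₁.2 x hx
  have ha2 : a * a = 1 := hAe a ha
  let A0 : Subgroup G :=
    { carrier := {b | b ∈ A ∧ ∀ u ∈ U₁, b * u * b⁻¹ ∈ U₁}
      mul_mem' := by
        rintro b b' ⟨hb, hbn⟩ ⟨hb', hbn'⟩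
        refine ⟨A.mul_mem hb hb', fun u hu => ?_⟩
        have e : b * b' * u * (b * b')⁻¹ = b * (b' * u * b'⁻¹) * b⁻¹ := by group
        rw [e]
        exact hbn _ (hbn' u hu)
      one_mem' := ⟨A.one_mem, fun u hu => by simpa using hu⟩
      inv_mem' := by
        rintro b ⟨hb, hbn⟩
        have hbi : b⁻¹ = b := inv_eq_of_mul_eq_one_left (hAe b hb)
        show b⁻¹ ∈ A ∧ ∀ u ∈ U₁, b⁻¹ * u * b⁻¹⁻¹ ∈ U₁
        rw [hbi]
        exact ⟨hb, hbn⟩ }
  have hA0mem : ∀ b, b ∈ A0 ↔ b ∈ A ∧ ∀ u ∈ U₁, b * u * b⁻¹ ∈ U₁ := fun b => Iff.rfl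
  have hA0le : A0 ≤ A := fun b hb => ((hA0mem b).1 hb).1
  have hidx : Nat.card A ≤ 2 * Nat.card A0 := by
    have hsub : (A : Set G) ⊆ (A0 : Set G) ∪ (fun y => a * y) '' (A0 : Set G) := by
      intro b hb
      by_cases hbn : ∀ u ∈ U₁, b * u * b⁻¹ ∈ U₁
      · exact Or.inl ((hA0mem b).2 ⟨hb, hbn⟩)
      · right
        have h2 : ∀ u ∈ U₁, b * u * b⁻¹ ∈ U₂ := (hperm b hb).resolve_left hbn
        refine ⟨a * b, (hA0mem _).2 ⟨A.mul_mem ha hb, fun u hu => ?_⟩, ?_⟩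
        · have e : a * b * u * (a * b)⁻¹ = a * (b * u * b⁻¹) * a⁻¹ := by group
          rw [e]
          exact hs₂ _ (h2 u hu)
        · show a * (a * b) = b
          rw [← mul_assoc, ha2, one_mul]
    have e1 := Set.ncard_le_ncard hsub (Set.toFinite _)
    have e2 := Set.ncard_union_le (A0 : Set G) ((fun y => a * y) '' (A0 : Set G))
    have e3 : ((fun y => a * y) '' (A0 : Set G)).ncard ≤ (A0 : Set G).ncard :=
      Set.ncard_image_le (Set.toFinite _)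
    have e4 : (A0 : Set G).ncard = Nat.card A0 := (Nat.card_coe_set_eq (A0 : Set G)).symm
    have e5 : (A : Set G).ncard = Nat.card A := (Nat.card_coe_set_eq (A : Set G)).symm
    omega
  refine count_core T A A0 U₁ U₂ a hAc hAe hAT ?_ hU₁T hU₂T hU₁e hc₁ hc₂ hcomm ?_ ha hs₁ hs₂
    hA0le hidx (fun b hb => ((hA0mem b).1 hb).2)
  · intro X hXT hXc hXe
    exact hmax X hXT ⟨⟨⟨fun x y => Subtype.ext (hXc x.1 x.2 y.1 y.2)⟩⟩,
      fun x hx => by rw [pow_two]; exact hXe x hx⟩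
  · intro x h1 h2
    have h0 : x ∈ U₁ ⊓ U₂ := Subgroup.mem_inf.2 ⟨h1, h2⟩
    rw [hdisj] at h0
    exact Subgroup.mem_bot.1 h0

end Cfsg.Agent.H2.R1Count
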