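import Mathlib

set_option autoImplicit false

/-!
helper2: parallel take of helper1's abstract core `r1_out` for S2953 (KILL2, case "V ⊄ Q1"),
Mathlib only, exact signature of board post 11052.

Route (no D8 × R structure, the hypotheses on `K'`, `O` are not used): `Ω` := the central
involutions of `Q₁`; `C` := the elements acting trivially on `Q₁` modulo `Ω`; `v ∈ C`, hence
`(v k v⁻¹ k) k = v (k v k⁻¹) ∈ C`, and a 2-power / order 3 argument gives `k ∈ C`; so every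
element of `Q₁` is (k-fixed)·(element of `Ω`); `y := s (k z k⁻¹) s⁻¹` is an involution of `T'`
with `v y v⁻¹ = y z`, and then `C_{T'}(y) ≤ Q₁`.
-/

namespace Cfsg.Agent.H2.R1Out

universe u

theorem r1_out {G : Type u} [Group G] [Finite G] (T' Q₁ K' O : Subgroup G) (z v k s : G)
    (hQT : Q₁ ≤ T') (hT2 : IsPGroup 2 ↥T') (hvT : v ∈ T') (hvQ : v ∉ Q₁)
    (hTQv : ∀ t ∈ T', t ∈ Q₁ ∨ t * v ∈ Q₁) (hv2 : v * v = 1) (hz2 : z * z = 1) (hzQ : z ∈ Q₁)
    (hzT : ∀ t ∈ T', t * z = z * t)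
    (hQv : ∀ q ∈ Q₁, v * q * v⁻¹ = q ∨ v * q * v⁻¹ = q * z) (hkK : k ∈ K') (hk3 : k ^ 3 = 1)
    (hkz : k * z * k⁻¹ ≠ z) (hkQ : ∀ q ∈ Q₁, k * q * k⁻¹ ∈ Q₁) (hOQ : O ≤ Q₁)
    (hKO : ∀ g ∈ K', ∃ o ∈ O, ∃ i : ℕ, g = o * k ^ i)
    (hKgen : Subgroup.closure {g : G | g ∈ K' ∧ Odd (orderOf g)} = K')
    (hvk : v * k * v⁻¹ ∈ K') (hvk' : v * k * v⁻¹ * k ∈ Q₁)
    (hsT : ∀ t ∈ T', s * t * s⁻¹ ∈ T') (hsv : s * v * s⁻¹ = v ∨ s * v * s⁻¹ = v * z) :
    ∀ q ∈ Q₁, s * q * s⁻¹ ∈ Q₁ := by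
  have hvinv : v⁻¹ = v := inv_eq_of_mul_eq_one_left hv2
  have hk3' : k * k * k = 1 := by
    have h := hk3
    rw [pow_succ, pow_two] at h
    exact h
  have hk2 : k⁻¹ = k * k := inv_eq_of_mul_eq_one_right (by rw [← mul_assoc]; exact hk3')
  have hkQ' : ∀ q ∈ Q₁, k⁻¹ * q * k ∈ Q₁ := by
    intro q hq
    have e : k⁻¹ * q * k = k * (k * q * k⁻¹) * k⁻¹ := by
      have e0 : k * (k * q * k⁻¹) * k⁻¹ = (k * k) * q * (k * k)⁻¹ := by group
      rw [e0, ← hk2, inv_inv]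
    rw [e]
    exact hkQ _ (hkQ q hq)
  -- Ω : the central involutions of Q₁
  let Ω : Subgroup G :=
    { carrier := {w | w ∈ Q₁ ∧ (∀ q ∈ Q₁, q * w = w * q) ∧ w * w = 1}
      mul_mem' := by
        rintro a b ⟨ha, hac, ha2⟩ ⟨hb, hbc, hb2⟩
        refine ⟨Q₁.mul_mem ha hb, fun q hq => ?_, ?_⟩
        · rw [← mul_assoc, hac q hq, mul_assoc, hbc q hq, ← mul_assoc]
        · have e : (a * b) * (a * b) = a * (b * a) * b := by group
          rw [e, hac b hb, mul_assoc, mul_assoc, hb2, mul_one, ha2]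
      one_mem' := ⟨Q₁.one_mem, fun q _ => by rw [mul_one, one_mul], by rw [mul_one]⟩
      inv_mem' := by
        rintro a ⟨ha, hac, ha2⟩
        have hai : a⁻¹ = a := inv_eq_of_mul_eq_one_left ha2
        show a⁻¹ ∈ Q₁ ∧ (∀ q ∈ Q₁, q * a⁻¹ = a⁻¹ * q) ∧ a⁻¹ * a⁻¹ = 1
        rw [hai]
        exact ⟨ha, hac, ha2⟩ }
  have hΩmem : ∀ w, w ∈ Ω ↔ w ∈ Q₁ ∧ (∀ q ∈ Q₁, q * w = w * q) ∧ w * w = 1 := fun w => Iff.rfl
  have hΩQ : Ω ≤ Q₁ := fun w hw => ((hΩmem w).1 hw).1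
  have hΩc : ∀ w ∈ Ω, ∀ q ∈ Q₁, Commute q w := fun w hw q hq => ((hΩmem w).1 hw).2.1 q hq
  have hΩe : ∀ w ∈ Ω, w * w = 1 := fun w hw => ((hΩmem w).1 hw).2.2
  have hzΩ : z ∈ Ω := (hΩmem z).2 ⟨hzQ, fun q hq => hzT q (hQT hq), hz2⟩
  have hΩk : ∀ w ∈ Ω, k * w * k⁻¹ ∈ Ω := by
    intro w hw
    obtain ⟨hwQ, hwc, hw2⟩ := (hΩmem w).1 hw
    refine (hΩmem _).2 ⟨hkQ w hwQ, fun q hq => ?_, ?_⟩
    · have c := hwc _ (hkQ' q hq)
      calc q * (k * w * k⁻¹) = k * ((k⁻¹ * q * k) * w) * k⁻¹ := by group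
        _ = k * (w * (k⁻¹ * q * k)) * k⁻¹ := by rw [c]
        _ = k * w * k⁻¹ * q := by group
    · have e : k * w * k⁻¹ * (k * w * k⁻¹) = k * (w * w) * k⁻¹ := by group
      rw [e, hw2]; group
  -- C : the elements acting trivially on Q₁ modulo Ω
  let C : Subgroup G :=
    { carrier := {g | ∀ q ∈ Q₁, g * q * g⁻¹ * q⁻¹ ∈ Ω ∧ g⁻¹ * q * g * q⁻¹ ∈ Ω}
      mul_mem' := by
        intro a b ha hb q hq
        have hb1 := (hb q hq).1
        have ha2 := (ha q hq).2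
        have hq1 : b * q * b⁻¹ ∈ Q₁ := by
          have e : b * q * b⁻¹ = (b * q * b⁻¹ * q⁻¹) * q := by group
          rw [e]; exact Q₁.mul_mem (hΩQ hb1) hq
        have hq2 : a⁻¹ * q * a ∈ Q₁ := by
          have e : a⁻¹ * q * a = (a⁻¹ * q * a * q⁻¹) * q := by group
          rw [e]; exact Q₁.mul_mem (hΩQ ha2) hq
        constructor
        · have e : a * b * q * (a * b)⁻¹ * q⁻¹
              = (a * (b * q * b⁻¹) * a⁻¹ * (b * q * b⁻¹)⁻¹) * (b * q * b⁻¹ * q⁻¹) := by group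
          rw [e]; exact Ω.mul_mem (ha _ hq1).1 hb1
        · have e : (a * b)⁻¹ * q * (a * b) * q⁻¹
              = (b⁻¹ * (a⁻¹ * q * a) * b * (a⁻¹ * q * a)⁻¹) * (a⁻¹ * q * a * q⁻¹) := by group
          rw [e]; exact Ω.mul_mem (hb _ hq2).2 ha2
      one_mem' := by
        intro q _
        have e1 : (1 : G) * q * (1 : G)⁻¹ * q⁻¹ = 1 := by group
        have e2 : (1 : G)⁻¹ * q * 1 * q⁻¹ = 1 := by group
        rw [e1, e2]
        exact ⟨Ω.one_mem, Ω.one_mem⟩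
      inv_mem' := by
        intro a ha q hq
        refine ⟨?_, ?_⟩
        · rw [inv_inv]; exact (ha q hq).2
        · rw [inv_inv]; exact (ha q hq).1 }
  have hCmem : ∀ g, g ∈ C ↔ ∀ q ∈ Q₁, g * q * g⁻¹ * q⁻¹ ∈ Ω ∧ g⁻¹ * q * g * q⁻¹ ∈ Ω :=
    fun g => Iff.rfl
  have hvC : v ∈ C := by
    refine (hCmem v).2 (fun q hq => ?_)
    have h1 : v * q * v⁻¹ * q⁻¹ ∈ Ω := by
      rcases hQv q hq with h | h
      · rw [h, mul_inv_cancel]; exact Ω.one_mem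
      · rw [h]
        have e : q * z * q⁻¹ = z := mul_inv_eq_iff_eq_mul.2 (hzT q (hQT hq))
        rw [e]; exact hzΩ
    refine ⟨h1, ?_⟩
    have e : v⁻¹ * q * v * q⁻¹ = v * q * v⁻¹ * q⁻¹ := by rw [hvinv]
    rw [e]; exact h1
  have conjC : ∀ a : G, (∀ q ∈ Q₁, a⁻¹ * q * a ∈ Q₁) → (∀ w ∈ Ω, a * w * a⁻¹ ∈ Ω) →
      ∀ g ∈ C, a * g * a⁻¹ ∈ C := by
    intro a haQ haΩ g hg
    refine (hCmem _).2 (fun q hq => ⟨?_, ?_⟩)
    · have e : a * g * a⁻¹ * q * (a * g * a⁻¹)⁻¹ * q⁻¹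
          = a * (g * (a⁻¹ * q * a) * g⁻¹ * (a⁻¹ * q * a)⁻¹) * a⁻¹ := by group
      rw [e]; exact haΩ _ ((hCmem g).1 hg _ (haQ q hq)).1
    · have e : (a * g * a⁻¹)⁻¹ * q * (a * g * a⁻¹) * q⁻¹
          = a * (g⁻¹ * (a⁻¹ * q * a) * g * (a⁻¹ * q * a)⁻¹) * a⁻¹ := by group
      rw [e]; exact haΩ _ ((hCmem g).1 hg _ (haQ q hq)).2
  have hkvC : k * v * k⁻¹ ∈ C := conjC k hkQ' hΩk v hvC
  obtain ⟨q0, hq0def⟩ : ∃ q0, q0 = v * k * v⁻¹ * k := ⟨_, rfl⟩
  have hq0 : q0 ∈ Q₁ := by rw [hq0def]; exact hvk'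
  have hgC : q0 * k ∈ C := by
    have e : q0 * k = v * (k * v * k⁻¹) := by
      rw [hq0def]
      calc v * k * v⁻¹ * k * k = v * k * v⁻¹ * (k * k) := by group
        _ = v * k * v⁻¹ * k⁻¹ := by rw [← hk2]
        _ = v * (k * v * k⁻¹) := by rw [hvinv]; group
    rw [e]; exact C.mul_mem hvC hkvC
  have hq0conj : ∀ g ∈ C, q0 * g * q0⁻¹ ∈ C := by
    refine conjC q0 (fun q hq => Q₁.mul_mem (Q₁.mul_mem (Q₁.inv_mem hq0) hq) hq0) ?_
    intro w hw
    have e : q0 * w * q0⁻¹ = w := mul_inv_eq_iff_eq_mul.2 (hΩc w hw q0 hq0).eq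
    rw [e]; exact hw
  have hpow : ∀ m : ℕ, q0 ^ m * k ^ m ∈ C := by
    intro m
    induction m with
    | zero => rw [pow_zero, pow_zero, one_mul]; exact C.one_mem
    | succ m ih =>
      have e : ∀ a b : G, q0 * a * (b * k) = q0 * (a * b) * q0⁻¹ * (q0 * k) := by
        intro a b; group
      rw [pow_succ' q0, pow_succ k, e]
      exact C.mul_mem (hq0conj _ ih) hgC
  obtain ⟨n, hn⟩ := hT2 ⟨q0, hQT hq0⟩
  have hn' : q0 ^ 2 ^ n = 1 := by
    have h := congrArg Subtype.val hn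
    simpa using h
  have hkpow : k ^ 2 ^ n ∈ C := by
    have h := hpow (2 ^ n)
    rw [hn', one_mul] at h
    exact h
  have hkC : k ∈ C := by
    have hcop : Nat.Coprime (2 ^ n) (orderOf k) :=
      Nat.Coprime.coprime_dvd_right (orderOf_dvd_of_pow_eq_one hk3)
        (Nat.Coprime.pow_left n (by norm_num))
    obtain ⟨j, hj⟩ := exists_pow_eq_self_of_coprime hcop
    have h := C.pow_mem hkpow j
    rwa [hj] at h
  -- every element of Q₁ is (k-fixed) · (element of Ω)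
  have decomp : ∀ q ∈ Q₁, ∃ w ∈ Ω, Commute k (q * w) := by
    intro q hq
    have hω := ((hCmem k).1 hkC q hq).1
    obtain ⟨ω, hωdef⟩ : ∃ ω, ω = k * q * k⁻¹ * q⁻¹ := ⟨_, rfl⟩
    rw [← hωdef] at hω
    obtain ⟨ω1, hω1def⟩ : ∃ ω1, ω1 = k * ω * k⁻¹ := ⟨_, rfl⟩
    obtain ⟨ω2, hω2def⟩ : ∃ ω2, ω2 = k * ω1 * k⁻¹ := ⟨_, rfl⟩
    have hω1 : ω1 ∈ Ω := by rw [hω1def]; exact hΩk ω hω
    have hω2 : ω2 ∈ Ω := by rw [hω2def]; exact hΩk ω1 hω1
    refine ⟨ω1, hω1, ?_⟩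
    have rel : ω2 * ω1 * ω = 1 := by
      have a : ω2 * ω1 * ω * q = (k * k * k) * q * (k * k * k)⁻¹ := by
        rw [hω2def, hω1def, hωdef]; group
      have b : (k * k * k) * q * (k * k * k)⁻¹ = q := by rw [hk3']; group
      exact mul_right_cancel ((a.trans b).trans (one_mul q).symm)
    have h1 : ω2 * ω1 = ω := by
      have h := eq_inv_of_mul_eq_one_left rel
      rw [h]; exact inv_eq_of_mul_eq_one_left (hΩe ω hω)
    have c1 : ω1 * ω2 = ω2 * ω1 := (hΩc ω2 hω2 ω1 (hΩQ hω1)).eq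
    have h2 : ω * ω2 = ω1 := by
      calc ω * ω2 = (ω2 * ω1) * ω2 := by rw [h1]
        _ = ω2 * (ω1 * ω2) := mul_assoc _ _ _
        _ = ω2 * (ω2 * ω1) := by rw [c1]
        _ = (ω2 * ω2) * ω1 := (mul_assoc _ _ _).symm
        _ = ω1 := by rw [hΩe ω2 hω2, one_mul]
    have e1 : k * (q * ω1) * k⁻¹ = (ω * q) * ω2 := by
      rw [hω2def, hωdef]; group
    have e2 : ω * q = q * ω := (hΩc ω hω q hq).eq.symm
    have e3 : k * (q * ω1) * k⁻¹ = q * ω1 := by rw [e1, e2, mul_assoc, h2]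
    exact mul_inv_eq_iff_eq_mul.1 e3
  -- the action of v on T'
  have TV : ∀ t ∈ T', v * t * v⁻¹ = t ∨ v * t * v⁻¹ = t * z := by
    intro t ht
    rcases hTQv t ht with h | h
    · exact hQv t h
    · have a : v * (t * v) * v⁻¹ = v * t := by group
      rcases hQv (t * v) h with h' | h'
      · left
        rw [a] at h'
        exact mul_inv_eq_iff_eq_mul.2 h'
      · right
        rw [a] at h'
        have c : v * z = z * v := hzT v hvT
        have h'' : v * t = t * z * v := by rw [h', mul_assoc, c, ← mul_assoc]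
        exact mul_inv_eq_iff_eq_mul.2 h''
  -- z1, z2
  obtain ⟨z1, hz1⟩ : ∃ z1, z1 = k * z * k⁻¹ := ⟨_, rfl⟩
  obtain ⟨z2, hz2def⟩ : ∃ z2, z2 = k * z1 * k⁻¹ := ⟨_, rfl⟩
  have hz1Ω : z1 ∈ Ω := by rw [hz1]; exact hΩk z hzΩ
  have hz2Ω : z2 ∈ Ω := by rw [hz2def]; exact hΩk z1 hz1Ω
  have hk3z : k * z2 * k⁻¹ = z := by
    have e : k * (k * (k * z * k⁻¹) * k⁻¹) * k⁻¹ = (k * k * k) * z * (k * k * k)⁻¹ := by group
    rw [hz2def, hz1, e, hk3']; group
  have hz2k : k⁻¹ * z * k = z2 := by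
    have e : k⁻¹ * (k * z2 * k⁻¹) * k = z2 := by group
    rw [hk3z] at e
    exact e
  have hvz : v * z * v⁻¹ = z := mul_inv_eq_iff_eq_mul.2 (hzT v hvT)
  have hvz1 : v * z1 * v⁻¹ = z2 := by
    have a1 : v * (k * z * k⁻¹) * v⁻¹
        = (v * k * v⁻¹ * k) * (k⁻¹ * (v * z * v⁻¹) * k) * (v * k * v⁻¹ * k)⁻¹ := by group
    rw [hz1, a1, hvz, hz2k, ← hq0def]
    exact mul_inv_eq_iff_eq_mul.2 (hΩc z2 hz2Ω q0 hq0).eq
  have hz21 : z2 ≠ z1 := by
    intro h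
    apply hkz
    have h1 : k * z1 * k⁻¹ = z1 := by rw [← hz2def]; exact h
    calc k * z * k⁻¹ = z1 := hz1.symm
      _ = k * z1 * k⁻¹ := h1.symm
      _ = k * z2 * k⁻¹ := by rw [h]
      _ = z := hk3z
  -- y
  obtain ⟨y, hy⟩ : ∃ y, y = s * z1 * s⁻¹ := ⟨_, rfl⟩
  have hyT : y ∈ T' := by rw [hy]; exact hsT z1 (hQT (hΩQ hz1Ω))
  have hyy : y * y = 1 := by
    have e : s * z1 * s⁻¹ * (s * z1 * s⁻¹) = s * (z1 * z1) * s⁻¹ := by group
    rw [hy, e, hΩe z1 hz1Ω]; group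
  have hvy : v * y * v⁻¹ = y * z := by
    rcases TV y hyT with h | h
    · exfalso
      have hv'y : (s * v * s⁻¹) * y * (s * v * s⁻¹)⁻¹ = y := by
        rcases hsv with h' | h'
        · rw [h']; exact h
        · rw [h']
          have a : (v * z) * y * (v * z)⁻¹ = v * (z * y * z⁻¹) * v⁻¹ := by group
          have b : z * y * z⁻¹ = y := mul_inv_eq_iff_eq_mul.2 (hzT y hyT).symm
          rw [a, b]; exact h
      have e : (s * v * s⁻¹) * (s * z1 * s⁻¹) * (s * v * s⁻¹)⁻¹ = s * (v * z1 * v⁻¹) * s⁻¹ := by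
        group
      rw [hy, e, hvz1] at hv'y
      exact hz21 (mul_left_cancel (mul_right_cancel hv'y))
    · exact h
  rcases hTQv y hyT with hyQ | hyv
  · -- y ∈ Q₁ : the centralizer of y in T' lies in Q₁
    have hcent : ∀ t ∈ T', t * y = y * t → t ∈ Q₁ := by
      intro t ht hty
      rcases hTQv t ht with h | h
      · exact h
      · exfalso
        obtain ⟨w, hw, hkr⟩ := decomp y hyQ
        obtain ⟨wq, hwq, hkq⟩ := decomp (t * v) h
        have e1 : (t * v) * y * (t * v)⁻¹ = y * z := by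
          have a1 : (t * v) * y * (t * v)⁻¹ = t * (v * y * v⁻¹) * t⁻¹ := by group
          rw [a1, hvy]
          have c1 : Commute t (y * z) := (show Commute t y from hty).mul_right (hzT t ht)
          exact mul_inv_eq_iff_eq_mul.2 c1.eq
        have e2 : (t * v) * (y * w) * (t * v)⁻¹ = (y * w) * z := by
          have a2 : (t * v) * (y * w) * (t * v)⁻¹
              = ((t * v) * y * (t * v)⁻¹) * ((t * v) * w * (t * v)⁻¹) := by group
          have a3 : (t * v) * w * (t * v)⁻¹ = w :=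
            mul_inv_eq_iff_eq_mul.2 (hΩc w hw (t * v) h).eq
          have c2 : z * w = w * z := (hΩc w hw z hzQ).eq
          rw [a2, e1, a3, mul_assoc, c2, ← mul_assoc]
        have e3 : (t * v * wq) * (y * w) * (t * v * wq)⁻¹ = (y * w) * z := by
          have a4 : (t * v * wq) * (y * w) * (t * v * wq)⁻¹
              = (t * v) * (wq * (y * w) * wq⁻¹) * (t * v)⁻¹ := by group
          have a5 : wq * (y * w) * wq⁻¹ = y * w := by
            have c3 : Commute (y * w) wq := hΩc wq hwq (y * w) (Q₁.mul_mem hyQ (hΩQ hw))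
            exact mul_inv_eq_iff_eq_mul.2 c3.symm.eq
          rw [a4, a5, e2]
        have e4 : z = (y * w)⁻¹ * ((t * v * wq) * (y * w) * (t * v * wq)⁻¹) := by
          rw [e3]; group
        have c4 : Commute k z := by
          rw [e4]
          exact hkr.inv_right.mul_right ((hkq.mul_right hkr).mul_right hkq.inv_right)
        exact hkz (mul_inv_eq_iff_eq_mul.2 c4.eq)
    intro q hq
    refine hcent _ (hsT q (hQT hq)) ?_
    have c : q * z1 = z1 * q := (hΩc z1 hz1Ω q hq).eq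
    rw [hy]
    calc s * q * s⁻¹ * (s * z1 * s⁻¹) = s * (q * z1) * s⁻¹ := by group
      _ = s * (z1 * q) * s⁻¹ := by rw [c]
      _ = s * z1 * s⁻¹ * (s * q * s⁻¹) := by group
  · -- y v ∈ Q₁ : impossible, (y v)² = z would be k-fixed
    exfalso
    obtain ⟨wq, hwq, hkq⟩ := decomp (y * v) hyv
    have e2 : (y * v) * (y * v) = z := by
      have a2 : (y * v) * (y * v) = y * (v * y * v⁻¹) * (v * v) := by group
      rw [a2, hvy, hv2, mul_one, ← mul_assoc, hyy, one_mul]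
    have e3 : (y * v * wq) * (y * v * wq) = z := by
      have c2 : Commute (y * v) wq := hΩc wq hwq (y * v) hyv
      have a3 : (y * v * wq) * (y * v * wq) = (y * v) * (y * v) * (wq * wq) := by
        calc (y * v * wq) * (y * v * wq) = (y * v) * (wq * (y * v)) * wq := by group
          _ = (y * v) * ((y * v) * wq) * wq := by rw [c2.symm.eq]
          _ = (y * v) * (y * v) * (wq * wq) := by group
      rw [a3, e2, hΩe wq hwq, mul_one]
    have c4 : Commute k z := by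
      rw [← e3]
      exact hkq.mul_right hkq
    exact hkz (mul_inv_eq_iff_eq_mul.2 c4.eq)

end Cfsg.Agent.H2.R1Out
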