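import Mathlib
import Cfsg.Agent.H68.U3ODefs
import Cfsg.Agent.H62.PSU3d
import Cfsg.Agent.H62.PSU3e

/-!
# S2786 piece O-CENTER (helper2, for helper68)

The centre of `SU₃(pⁿ)` (`p` odd) has no nontrivial `p`-elements and an exponent `m ≡ 1 (mod p)`.
-/

set_option autoImplicit false

namespace Cfsg.Agent.H2.U3O

open Matrix
open Cfsg.Agent.H68.U3O

universe u

theorem su_ext {F : Type u} [Field F] (q : ℕ) (z w : Cfsg.SU 3 F q)
    (h : (z.1.1 : Matrix (Fin 3) (Fin 3) F) = w.1.1) : z = w :=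
  Subtype.ext (Subtype.ext h)

theorem su_coe_one {F : Type u} [Field F] (q : ℕ) :
    ((1 : Cfsg.SU 3 F q).1.1 : Matrix (Fin 3) (Fin 3) F) = 1 := rfl

theorem smul_one_pow {F : Type u} [Field F] (c : F) (k : ℕ) :
    (c • (1 : Matrix (Fin 3) (Fin 3) F)) ^ k = (c ^ k) • (1 : Matrix (Fin 3) (Fin 3) F) := by
  rw [smul_pow, one_pow]

theorem smul_one_eq_one_iff {F : Type u} [Field F] (c : F) :
    c • (1 : Matrix (Fin 3) (Fin 3) F) = 1 ↔ c = 1 := by
  constructor
  · intro h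
    have := congrFun (congrFun h 0) 0
    simpa using this
  · rintro rfl
    rw [one_smul]

/-- **S2786 O-CENTER**. -/
theorem centerO : Cfsg.Agent.H68.U3O.StCenterO.{u} := by
  intro F _ _ p _ _ hp2 n hn hF
  have hpp : p.Prime := Fact.out
  have hsc := Cfsg.Agent.H62.su3_center_scalar p hp2 n (p ^ n) rfl hF
  have hcube : ∀ z ∈ Subgroup.center (Cfsg.SU 3 F (p ^ n)), ∀ c : F,
      (z.1.1 : Matrix (Fin 3) (Fin 3) F) = c • (1 : Matrix (Fin 3) (Fin 3) F) → c ^ 3 = 1 := by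
    intro z _ c hc
    have hdet : (z.1.1 : Matrix (Fin 3) (Fin 3) F).det = 1 := z.1.2
    rw [hc, Matrix.det_smul, Matrix.det_one, mul_one] at hdet
    simpa using hdet
  have hpow : ∀ (z : Cfsg.SU 3 F (p ^ n)) (c : F) (k : ℕ),
      (z.1.1 : Matrix (Fin 3) (Fin 3) F) = c • (1 : Matrix (Fin 3) (Fin 3) F) →
      (((z ^ k : Cfsg.SU 3 F (p ^ n)).1.1 : Matrix (Fin 3) (Fin 3) F) =
        (c ^ k) • (1 : Matrix (Fin 3) (Fin 3) F)) := by
    intro z c k hc
    rw [Cfsg.Agent.H62.su3_coe_pow, hc, smul_one_pow]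
  refine ⟨?_, ?_⟩
  · intro z hz k hk
    obtain ⟨c, hc⟩ := hsc z hz
    have h1 := hpow z c (p ^ k) hc
    rw [hk, su_coe_one] at h1
    have hck : c ^ (p ^ k) = 1 := (smul_one_eq_one_iff _).1 h1.symm
    have h2 : (c - 1) ^ (p ^ k) = 0 := by
      rw [sub_pow_char_pow, hck, one_pow, sub_self]
    have hc1 : c = 1 := by
      have := pow_eq_zero_iff (pow_ne_zero k hpp.ne_zero) |>.1 h2
      exact sub_eq_zero.1 this
    apply su_ext
    rw [hc, hc1, one_smul, su_coe_one]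
  · by_cases hp3 : p = 3
    · refine ⟨1, ?_, ?_⟩
      · subst hp3; rfl
      · intro z hz
        obtain ⟨c, hc⟩ := hsc z hz
        have hc3 := hcube z hz c hc
        have h2 : (c - 1) ^ 3 = 0 := by
          have h3 := sub_pow_char c 1 (p := p)
          rw [hp3] at h3
          rw [h3, hc3, one_pow, sub_self]
        have hc1 : c = 1 := by
          have := pow_eq_zero_iff (by norm_num : (3 : ℕ) ≠ 0) |>.1 h2
          exact sub_eq_zero.1 this
        rw [pow_one]
        apply su_ext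
        rw [hc, hc1, one_smul, su_coe_one]
    · -- `p ≠ 3`: choose `m ∈ {p + 1, 2p + 1}` divisible by 3
      have hp5 : 3 < p := by
        have := hpp.two_le
        omega
      have hmod : p % 3 = 1 ∨ p % 3 = 2 := by
        have h3 : ¬ 3 ∣ p := by
          intro h
          have := (Nat.prime_dvd_prime_iff_eq Nat.prime_three hpp).1 h
          omega
        omega
      have hz3 : ∀ z ∈ Subgroup.center (Cfsg.SU 3 F (p ^ n)), z ^ 3 = 1 := by
        intro z hz
        obtain ⟨c, hc⟩ := hsc z hz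
        have hc3 := hcube z hz c hc
        apply su_ext
        rw [hpow z c 3 hc, hc3, one_smul, su_coe_one]
      rcases hmod with h | h
      · refine ⟨2 * p + 1, ?_, ?_⟩
        · rw [Nat.add_mod, Nat.mul_mod_left, zero_add, Nat.mod_mod]
          exact Nat.mod_eq_of_lt (by omega)
        · intro z hz
          obtain ⟨t, ht⟩ : 3 ∣ 2 * p + 1 := by omega
          rw [ht, pow_mul, hz3 z hz, one_pow]
      · refine ⟨p + 1, ?_, ?_⟩
        · rw [Nat.add_mod, Nat.mod_self, zero_add, Nat.mod_mod]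
          exact Nat.mod_eq_of_lt (by omega)
        · intro z hz
          obtain ⟨t, ht⟩ : 3 ∣ p + 1 := by omega
          rw [ht, pow_mul, hz3 z hz, one_pow]

example : Cfsg.Agent.H68.U3O.StCenterO.{u} = (∀ (F : Type u) [Field F] [Fintype F] (p : ℕ) [Fact p.Prime] [CharP F p], p ≠ 2 →
    ∀ n : ℕ, 1 ≤ n → Fintype.card F = (p ^ n) ^ 2 →
      (∀ z ∈ Subgroup.center (Cfsg.SU 3 F (p ^ n)), ∀ k : ℕ, z ^ (p ^ k) = 1 → z = 1) ∧
      ∃ m : ℕ, m % p = 1 ∧ ∀ z ∈ Subgroup.center (Cfsg.SU 3 F (p ^ n)), z ^ m = 1) := rfl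

end Cfsg.Agent.H2.U3O
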