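import Mathlib
import Cfsg.Agent.H68.U3ODefs
import Cfsg.Agent.H68.U3OLib
import Cfsg.Agent.H62.PSU3d
import Cfsg.Agent.H62.PSU3e

/-!
# S2786 piece O-UCENT (helper2, for helper68)

An element of order `p` of `SU₃(pⁿ)` commuting with `UX` is the transvection `tau c` in the frame `B`.
-/

set_option autoImplicit false

namespace Cfsg.Agent.H2.U3O

open Matrix
open Cfsg.Agent.H68.U3F (JJ IsJU tau)
open Cfsg.Agent.H68.U3O

universe u

/-- powers of `a • 1 + c • E₁₃`. -/
theorem pow_form {F : Type u} [Field F] (a c : F) (k : ℕ) :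
    ∃ c' : F, (!![a, 0, c; 0, a, 0; 0, 0, a] : Matrix (Fin 3) (Fin 3) F) ^ k =
      !![a ^ k, 0, c'; 0, a ^ k, 0; 0, 0, a ^ k] := by
  induction k with
  | zero =>
    refine ⟨0, ?_⟩
    ext i j
    fin_cases i <;> fin_cases j <;> simp
  | succ k ih =>
    obtain ⟨c', hc'⟩ := ih
    refine ⟨a ^ k * c + c' * a, ?_⟩
    rw [pow_succ, hc']
    ext i j
    fin_cases i <;> fin_cases j <;>
      simp [Matrix.mul_apply, Fin.sum_univ_three, pow_succ]

/-- **S2786 O-UCENT**. -/
theorem ucent (hA : Cfsg.Agent.H68.U3O.StUcentA.{u}) : Cfsg.Agent.H68.U3O.StUcent.{u} := by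
  intro F _ _ p _ _ hp2 n hn hF B hB M hM hMp hM1 hcomm
  obtain ⟨hq3, hodd, hm, hp3, hFq, hFqq, hadd, hsub⟩ :=
    Cfsg.Agent.H62.su3_basic p hp2 n (p ^ n) rfl hF
  have hq0 : p ^ n ≠ 0 := by omega
  have hBi := mul_frameInv (p ^ n) B hB
  have hBi' := frameInv_mul (p ^ n) B hB
  set Bi := frameInv (p ^ n) B with hBi_def
  set A := Bi * M * B with hAdef
  have hAJU : IsJU (p ^ n) A := frame_isJU p n B M hB hM
  have hMB : M * B = B * A := by
    rw [hAdef, ← Matrix.mul_assoc, ← Matrix.mul_assoc, hBi, Matrix.one_mul]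
  -- commutation in frame coordinates
  have hc : ∀ A' : Matrix (Fin 3) (Fin 3) F, IsJU (p ^ n) A' → IsUT A' → A' * A = A * A' := by
    intro A' hA'1 hA'2
    have hU := conj_isU3 p n B A' hB hA'1
    have hg : Cfsg.Agent.H62.mkSU3 p n (B * A' * Bi) hU ∈ UX (p ^ n) B := by
      refine ⟨A', hA'2, ?_⟩
      rw [Cfsg.Agent.H62.mkSU3_coe, Matrix.mul_assoc, hBi', Matrix.mul_one]
    have h1 := hcomm _ hg
    rw [Cfsg.Agent.H62.mkSU3_coe] at h1
    -- h1 : B * A' * Bi * M = M * (B * A' * Bi)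
    calc A' * A = Bi * (B * A' * Bi * M) * B := by
          rw [hAdef]
          have : Bi * (B * A' * Bi * M) * B = (Bi * B) * A' * (Bi * M * B) := by
            simp only [Matrix.mul_assoc]
          rw [this, hBi', Matrix.one_mul]
      _ = Bi * (M * (B * A' * Bi)) * B := by rw [h1]
      _ = A * A' := by
          rw [hAdef]
          have : Bi * (M * (B * A' * Bi)) * B = (Bi * M * B) * A' * (Bi * B) := by
            simp only [Matrix.mul_assoc]
          rw [this, hBi', Matrix.mul_one]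
  obtain ⟨a, c, hAac⟩ := hA F p hp2 n hn hF A hc
  -- `A ^ p = 1`
  have hAp : A ^ p = 1 := by
    have key : ∀ k : ℕ, A ^ k = Bi * M ^ k * B := by
      intro k
      induction k with
      | zero => simp [hBi']
      | succ k ih =>
        rw [pow_succ, ih, pow_succ, hAdef]
        have : Bi * M ^ k * B * (Bi * M * B) = Bi * M ^ k * (B * Bi) * M * B := by
          simp only [Matrix.mul_assoc]
        rw [this, hBi, Matrix.mul_one]
        simp only [Matrix.mul_assoc]
    rw [key, hMp, Matrix.mul_one, hBi']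
  obtain ⟨c', hc'⟩ := pow_form a c p
  have hap : a ^ p = 1 := by
    have h := congrFun (congrFun hAp 0) 0
    rw [hAac, hc'] at h
    simpa using h
  have ha1 : a = 1 := by
    have h : (a - 1) ^ p = 0 := by
      rw [sub_pow_char, hap, one_pow, sub_self]
    have := pow_eq_zero_iff (Fact.out : p.Prime).ne_zero |>.1 h
    exact sub_eq_zero.1 this
  subst ha1
  have hAtau : A = tau c := by
    rw [hAac]
    rfl
  refine ⟨c, ?_, ?_, ?_⟩
  · rintro rfl
    apply hM1
    have hA1 : A = 1 := by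
      rw [hAac]
      ext i j
      fin_cases i <;> fin_cases j <;> simp
    have : M = B * A * Bi := by
      rw [← hMB, Matrix.mul_assoc, hBi, Matrix.mul_one]
    rw [this, hA1, Matrix.mul_one, hBi]
  · have h := congrFun (congrFun hAJU.2 2) 2
    rw [hAac] at h
    simp [JJ, Matrix.mul_apply, Fin.sum_univ_three] at h
    linear_combination h
  · rw [hMB, hAtau]

example : Cfsg.Agent.H68.U3O.StUcent.{u} = (∀ (F : Type u) [Field F] [Fintype F] (p : ℕ) [Fact p.Prime] [CharP F p], p ≠ 2 →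
    ∀ n : ℕ, 1 ≤ n → Fintype.card F = (p ^ n) ^ 2 →
      ∀ B : Matrix (Fin 3) (Fin 3) F, IsFrameO (p ^ n) B →
        ∀ M : Matrix (Fin 3) (Fin 3) F, Cfsg.Agent.H62.IsU3 (p ^ n) M → M ^ p = 1 → M ≠ 1 →
          (∀ g ∈ UX (p ^ n) B, (g.1.1 : Matrix (Fin 3) (Fin 3) F) * M = M * g.1.1) →
          ∃ c : F, c ≠ 0 ∧ c ^ (p ^ n) = -c ∧ M * B = B * tau c) := rfl

end Cfsg.Agent.H2.U3O
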