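import Mathlib
import Cfsg.Agent.H68.U3ODefs
import Cfsg.Agent.H62.PSU3d
import Cfsg.Agent.H62.PSU3e

/-!
# S2786 piece O-UCENTA (helper2, for helper68)

A `3 × 3` matrix commuting with all `JJ`-unitary upper unitriangular matrices is `a • 1 + c • E₁₃`.
-/

set_option autoImplicit false

namespace Cfsg.Agent.H2.U3O

open Matrix
open Cfsg.Agent.H68.U3F (JJ IsJU tau)
open Cfsg.Agent.H68.U3O

universe u

/-- the `JJ`-unitary upper unitriangular matrix `u(y, z)`. -/
theorem isJU_u {F : Type u} [Field F] (q : ℕ) (hq0 : q ≠ 0) (hodd : Odd q) (y z : F)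
    (hy : (y ^ q) ^ q = y) (hz : z + z ^ q + y ^ q * y = 0) :
    IsJU q (!![1, -y ^ q, z; 0, 1, y; 0, 0, 1] : Matrix (Fin 3) (Fin 3) F) := by
  have hneg : (-y ^ q) ^ q = -y := by rw [Odd.neg_pow hodd, hy]
  constructor
  · simp [Matrix.det_fin_three]
  · ext i j
    fin_cases i <;> fin_cases j <;>
      simp [JJ, Matrix.mul_apply, Fin.sum_univ_three, hq0, hneg]
    linear_combination hz

theorem isUT_u {F : Type u} [Field F] (a b c : F) :
    IsUT (!![1, a, b; 0, 1, c; 0, 0, 1] : Matrix (Fin 3) (Fin 3) F) := by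
  simp [IsUT]

/-- **S2786 O-UCENTA**. -/
theorem ucentA : Cfsg.Agent.H68.U3O.StUcentA.{u} := by
  intro F _ _ p _ _ hp2 n hn hF A hA
  obtain ⟨hq3, hodd, hm, hp3, hFq, hFqq, hadd, hsub⟩ :=
    Cfsg.Agent.H62.su3_basic p hp2 n (p ^ n) rfl hF
  obtain ⟨g, ζ, β, c₀, hg, hg0, hζ, hβ, hc0, hc0q⟩ := Cfsg.Agent.H62.ff_elts (p ^ n) hq3 hodd hF
  have hq0 : p ^ n ≠ 0 := by omega
  set q := p ^ n with hq
  have h2ne : (2 : F) ≠ 0 := by
    intro h
    have h2 : ((2 : ℕ) : F) = 0 := by exact_mod_cast h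
    rw [CharP.cast_eq_zero_iff F p] at h2
    have := Nat.le_of_dvd (by norm_num) h2
    omega
  have h2q : (2 : F) ^ q = 2 := by
    have := hadd 1 1
    rw [one_pow, one_add_one_eq_two] at this
    exact this
  -- test matrix 1: tau c₀
  have hT1 : IsJU q (!![1, -(0:F) ^ q, c₀; 0, 1, 0; 0, 0, 1] : Matrix (Fin 3) (Fin 3) F) := by
    apply isJU_u q hq0 hodd
    · simp [hq0]
    · rw [hc0q]; simp [hq0]
  have e1 := hA _ hT1 (isUT_u _ _ _)
  -- test matrix 2: u(1, -1/2)
  have hT2 : IsJU q (!![1, -(1:F) ^ q, -(2:F)⁻¹; 0, 1, 1; 0, 0, 1] :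
      Matrix (Fin 3) (Fin 3) F) := by
    apply isJU_u q hq0 hodd
    · simp
    · rw [Odd.neg_pow hodd, inv_pow, h2q]
      field_simp
      ring
  have e2 := hA _ hT2 (isUT_u _ _ _)
  -- test matrix 3: u(c₀, c₀²/2)
  have hT3 : IsJU q (!![1, -c₀ ^ q, c₀ ^ 2 / 2; 0, 1, c₀; 0, 0, 1] :
      Matrix (Fin 3) (Fin 3) F) := by
    apply isJU_u q hq0 hodd
    · exact hFqq c₀
    · rw [div_pow, h2q, ← pow_mul, mul_comm 2 q, pow_mul, hc0q]
      field_simp
      ring
  have e3 := hA _ hT3 (isUT_u _ _ _)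
  -- entries
  have a10 : A 1 0 = 0 := by
    have h := congrFun (congrFun e1 1) 2
    simp [Matrix.mul_apply, Fin.sum_univ_three, hq0] at h
    rcases h with h | h
    · exact h
    · exact absurd h hc0
  have a20 : A 2 0 = 0 := by
    have h := congrFun (congrFun e1 0) 0
    simp [Matrix.mul_apply, Fin.sum_univ_three, hq0] at h
    rcases h with h | h
    · exact absurd h hc0
    · exact h
  have a21 : A 2 1 = 0 := by
    have h := congrFun (congrFun e1 0) 1
    simp [Matrix.mul_apply, Fin.sum_univ_three, hq0] at h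
    rcases h with h | h
    · exact absurd h hc0
    · exact h
  have a22 : A 2 2 = A 0 0 := by
    have h := congrFun (congrFun e1 0) 2
    simp [Matrix.mul_apply, Fin.sum_univ_three, hq0] at h
    have h' : c₀ * (A 2 2 - A 0 0) = 0 := by linear_combination h
    rcases mul_eq_zero.1 h' with h | h
    · exact absurd h hc0
    · exact sub_eq_zero.1 h
  have a11 : A 1 1 = A 0 0 := by
    have h := congrFun (congrFun e2 0) 1
    simp [Matrix.mul_apply, Fin.sum_univ_three, a21] at h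
    linear_combination -h
  have r1 : A 0 1 = -A 1 2 := by
    have h := congrFun (congrFun e2 0) 2
    simp [Matrix.mul_apply, Fin.sum_univ_three, a22] at h
    linear_combination -h
  have r2 : A 0 1 = A 1 2 := by
    have h := congrFun (congrFun e3 0) 2
    simp [Matrix.mul_apply, Fin.sum_univ_three, a22, hc0q] at h
    have h' : c₀ * (A 0 1 - A 1 2) = 0 := by linear_combination -h
    rcases mul_eq_zero.1 h' with h | h
    · exact absurd h hc0
    · exact sub_eq_zero.1 h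
  have a12 : A 1 2 = 0 := by
    have h : (2 : F) * A 1 2 = 0 := by linear_combination r1 - r2
    rcases mul_eq_zero.1 h with h | h
    · exact absurd h h2ne
    · exact h
  have a01 : A 0 1 = 0 := by rw [r2, a12]
  refine ⟨A 0 0, A 0 2, ?_⟩
  ext i j
  fin_cases i <;> fin_cases j <;> simp [a10, a20, a21, a22, a11, a12, a01]

example : Cfsg.Agent.H68.U3O.StUcentA.{u} = (∀ (F : Type u) [Field F] [Fintype F] (p : ℕ) [Fact p.Prime] [CharP F p], p ≠ 2 →
    ∀ n : ℕ, 1 ≤ n → Fintype.card F = (p ^ n) ^ 2 →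
      ∀ A : Matrix (Fin 3) (Fin 3) F,
        (∀ A' : Matrix (Fin 3) (Fin 3) F, IsJU (p ^ n) A' → IsUT A' → A' * A = A * A') →
        ∃ a c : F, A = !![a, 0, c; 0, a, 0; 0, 0, a]) := rfl

end Cfsg.Agent.H2.U3O
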