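import Cfsg.Agent.H12.Subnormal2

/-!
# Wielandt's zipper lemma and subnormality criterion (internal versions)

Built on helper12's relative subnormality `Cfsg.Agent.H12.SubnIn`.
-/

set_option autoImplicit false
open Pointwise

namespace Cfsg.Agent.H2

open Cfsg.Agent.H12

universe u

variable {G : Type u} [Group G]

/-- **Wielandt's zipper lemma** (internal version): if `S` is subnormal in every proper subgroup
of `V` containing it but not in `V`, then `S` lies in a unique maximal subgroup `M` of `V`: every
proper subgroup of `V` containing `S` is contained in `M`. -/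
theorem zipper_aux [Finite G] (V : Subgroup G) : ∀ (n : ℕ) (S : Subgroup G),
    Nat.card V - Nat.card S = n → S ≤ V →
    (∀ H : Subgroup G, S ≤ H → H < V → SubnIn S H) → ¬ SubnIn S V →
    ∃ M : Subgroup G, M < V ∧ ∀ H : Subgroup G, S ≤ H → H < V → H ≤ M := by
  intro n
  induction n using Nat.strong_induction_on with
  | _ n ih =>
  intro S hn hSV hyp hns
  have hSn : ¬ V ≤ Subgroup.normalizer (S : Set G) := fun h => hns (SubnIn.of_normal hSV h)
  have hNlt : Subgroup.normalizer (S : Set G) ⊓ V < V :=
    lt_of_le_of_ne inf_le_right (fun h => hSn (inf_eq_right.mp h))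
  obtain ⟨M, hNM, hMmax⟩ :=
    (Set.toFinite {K : Subgroup G | K < V}).exists_le_maximal hNlt
  have hMV : M < V := hMmax.prop
  refine ⟨M, hMV, ?_⟩
  intro H hSH hHV
  obtain ⟨K, hHK, hKmax⟩ :=
    (Set.toFinite {K : Subgroup G | K < V}).exists_le_maximal hHV
  have hKV : K < V := hKmax.prop
  have hSK : S ≤ K := hSH.trans hHK
  suffices hKM : K ≤ M from hHK.trans hKM
  have hsubK : SubnIn S K := hyp K hSK hKV
  by_cases hnK : K ≤ Subgroup.normalizer (S : Set G)
  · exact (le_inf hnK hKV.le).trans hNM
  · obtain ⟨x, hxK, hxS, hxN⟩ :=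
      hsubK.exists_conj_le_normalizer S le_rfl Subgroup.le_normalizer hnK
    have hxSK : MulAut.conj x • S ≤ K := by
      calc MulAut.conj x • S ≤ MulAut.conj x • K :=
            Subgroup.pointwise_smul_le_pointwise_smul_iff.mpr hSK
        _ = K := conj_smul_eq_of_mem_normalizer (Subgroup.le_normalizer hxK)
    have hTK : S ⊔ MulAut.conj x • S ≤ K := sup_le hSK hxSK
    have hTN : S ⊔ MulAut.conj x • S ≤ Subgroup.normalizer (S : Set G) :=
      sup_le Subgroup.le_normalizer hxN
    have hTM : S ⊔ MulAut.conj x • S ≤ M := (le_inf hTN (hTK.trans hKV.le)).trans hNM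
    have hST : S < S ⊔ MulAut.conj x • S := by
      refine lt_of_le_of_ne le_sup_left ?_
      intro h
      apply hxS
      apply conj_smul_eq_of_ge
      exact le_sup_right.trans h.ge
    have hTV : S ⊔ MulAut.conj x • S < V := lt_of_le_of_lt hTK hKV
    have hTns : ¬ SubnIn (S ⊔ MulAut.conj x • S) V :=
      fun h => hns ((SubnIn.of_normal hST.le hTN).trans h)
    have hxV : x ∈ V := hKV.le hxK
    have hTyp : ∀ H' : Subgroup G, S ⊔ MulAut.conj x • S ≤ H' → H' < V →
        SubnIn (S ⊔ MulAut.conj x • S) H' := by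
      intro H' hTH' hH'V
      have h1 : SubnIn S H' := hyp H' (le_sup_left.trans hTH') hH'V
      have h2 : SubnIn (MulAut.conj x • S) H' := by
        have h3 : S ≤ MulAut.conj x⁻¹ • H' := by
          have := (Subgroup.pointwise_smul_le_pointwise_smul_iff (a := MulAut.conj x⁻¹)).mpr
            (le_sup_right.trans hTH')
          rwa [conj_inv_smul_conj_smul] at this
        have h5 : MulAut.conj x⁻¹ • V = V :=
          conj_smul_eq_of_mem_normalizer (Subgroup.le_normalizer (V.inv_mem hxV))
        have h4 : MulAut.conj x⁻¹ • H' < V := by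
          refine lt_of_le_of_ne ?_ ?_
          · rw [← h5]
            exact Subgroup.pointwise_smul_le_pointwise_smul_iff.mpr hH'V.le
          · intro heq
            have h7 : MulAut.conj x • MulAut.conj x⁻¹ • H' = MulAut.conj x • V := by rw [heq]
            rw [conj_smul_conj_inv_smul,
              conj_smul_eq_of_mem_normalizer (Subgroup.le_normalizer hxV)] at h7
            exact hH'V.ne h7
        have h6 := (hyp _ h3 h4).conj x
        rwa [conj_smul_conj_inv_smul] at h6
      exact h1.sup h2
    have hcard : Nat.card V - Nat.card (S ⊔ MulAut.conj x • S : Subgroup G) < n := by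
      rw [← hn]
      have h1 := card_lt_card_of_lt' hST
      have h2 := card_lt_card_of_lt' hTV
      omega
    obtain ⟨M', hM'V, hM'⟩ := ih _ hcard (S ⊔ MulAut.conj x • S) rfl hTV.le hTyp hTns
    have hMM' : M ≤ M' := hM' M hTM hMV
    have hKM' : K ≤ M' := hM' K hTK hKV
    exact hKM'.trans (hMmax.le_of_ge hM'V hMM')

/-- **Wielandt's subnormality criterion** (internal version): if `A` is subnormal in the join
with each of its conjugates, then `A` is subnormal in every subgroup containing it. -/
theorem wielandt_aux [Finite G] (A : Subgroup G)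
    (h : ∀ g : G, SubnIn A (A ⊔ MulAut.conj g • A)) :
    ∀ (n : ℕ) (V : Subgroup G), Nat.card V = n → A ≤ V → SubnIn A V := by
  intro n
  induction n using Nat.strong_induction_on with
  | _ n ih =>
  intro V hn hAV
  by_contra hns
  have hyp : ∀ H : Subgroup G, A ≤ H → H < V → SubnIn A H :=
    fun H hAH hHV => ih _ (hn ▸ card_lt_card_of_lt' hHV) H rfl hAH
  obtain ⟨M, hMV, hM⟩ := zipper_aux V _ A rfl hAV hyp hns
  have hconj : ∀ x ∈ V, MulAut.conj x • A ≤ M := by
    intro x hx
    have h1 : A ⊔ MulAut.conj x • A ≤ V := sup_le hAV (by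
      calc MulAut.conj x • A ≤ MulAut.conj x • V :=
            Subgroup.pointwise_smul_le_pointwise_smul_iff.mpr hAV
        _ = V := conj_smul_eq_of_mem_normalizer (Subgroup.le_normalizer hx))
    have h2 : A ⊔ MulAut.conj x • A ≠ V := fun heq => hns (heq ▸ h x)
    exact le_sup_right.trans (hM _ le_sup_left (lt_of_le_of_ne h1 h2))
  have hCM : sSup {B : Subgroup G | ∃ x ∈ V, B = MulAut.conj x • A} ≤ M :=
    sSup_le (by rintro B ⟨x, hx, rfl⟩; exact hconj x hx)
  have hAC : A ≤ sSup {B : Subgroup G | ∃ x ∈ V, B = MulAut.conj x • A} :=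
    le_sSup ⟨1, V.one_mem, by simp⟩
  have hVN : V ≤ Subgroup.normalizer
      ((sSup {B : Subgroup G | ∃ x ∈ V, B = MulAut.conj x • A} : Subgroup G) : Set G) :=
    le_normalizer_sSup_of_forall_mem (by
      rintro B ⟨y, hy, rfl⟩ x hx
      exact ⟨x * y, V.mul_mem hx hy, conj_smul_conj_smul A x y⟩)
  have hAM : SubnIn A M := hyp M (hAC.trans hCM) hMV
  exact hns ((hAM.of_le hAC hCM).trans (SubnIn.of_normal (hCM.trans hMV.le) hVN))

/-- **Wielandt's subnormality criterion**: a subgroup that is subnormal in its join with each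
of its conjugates is subnormal. -/
theorem isSubnormal_of_forall_conj [Finite G] (A : Subgroup G)
    (h : ∀ g : G, (A.subgroupOf (A ⊔ MulAut.conj g • A)).IsSubnormal) : A.IsSubnormal :=
  (wielandt_aux A (fun g => subnIn_of_isSubnormal_subgroupOf le_sup_left (h g)) _ ⊤ rfl
    le_top).isSubnormal

end Cfsg.Agent.H2
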